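import Mathlib
import Groth.Prelude.Def_W4bk4goldsch45
import Groth.Agent.Lib.Helper4.FF.Exist
import Groth.Agent.Lib.Helper4.FF.Weil
import Groth.Agent.Lib.Helper9.FFExt.Classical1

/-! Zeta functions, part 1: finiteness of places of bounded degree and of effective divisors of
given degree over a finite constant field. -/

namespace Groth.Agent.Helper9.Zeta

open FunFld Groth.Agent.Lib.Helper4.FF WithZero Polynomial

section

variable {k K : Type*} [Field k] [Field K] [Algebra k K]

/-- a place at which `x` is integral is a zero of `m(x)` for some nonzero polynomial `m` of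
degree at most the degree of the place -/
theorem exists_poly_of_val_le (hK : IsFunctionField k K) (P : Place k K) {x : K}
    (hx : P.1 x ≤ 1) :
    ∃ m : k[X], m ≠ 0 ∧ m.natDegree ≤ P.deg ∧ P.1 (aeval x m) < 1 := by
  classical
  obtain ⟨t, ht⟩ := Place.exists_uniformizer P
  have ht0 : t ≠ 0 := by
    rw [← Valuation.ne_zero_iff P.1, ht]; exact exp_ne_zero
  have hfin : Module.Finite k (IsLocalRing.ResidueField P.O) :=
    (Place.residue_finite_and_le P hK ht0 (by rw [ht]; exact lt_one_iff_le_exp_neg_one.mpr le_rfl)).1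
  let xO : P.O := ⟨x, (Place.mem_O_iff P).mpr hx⟩
  set d := P.deg with hd
  let v : Fin (d + 1) → IsLocalRing.ResidueField P.O := fun i => Place.resₗ P (xO ^ (i : ℕ))
  have hnli : ¬ LinearIndependent k v := by
    intro hli
    have := hli.fintype_card_le_finrank
    rw [Fintype.card_fin] at this
    change d + 1 ≤ P.deg at this
    omega
  rw [Fintype.not_linearIndependent_iff] at hnli
  obtain ⟨c, hc, i₀, hi₀⟩ := hnli
  refine ⟨∑ i : Fin (d + 1), monomial (i : ℕ) (c i), ?_, ?_, ?_⟩
  · intro h0
    apply hi₀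
    have := congrArg (fun p : k[X] => p.coeff (i₀ : ℕ)) h0
    simp only [finsetSum_coeff, coeff_monomial, coeff_zero] at this
    rw [Finset.sum_eq_single i₀] at this
    · simpa using this
    · intro j _ hj
      rw [if_neg]
      intro h
      exact hj (Fin.ext h)
    · intro h
      exact absurd (Finset.mem_univ _) h
  · apply natDegree_sum_le_of_forall_le
    intro i _
    refine (natDegree_monomial_le _).trans ?_
    have := i.2
    omega
  · have h1 : aeval x (∑ i : Fin (d + 1), monomial (i : ℕ) (c i)) =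
        Place.inclₗ P (∑ i : Fin (d + 1), c i • xO ^ (i : ℕ)) := by
      rw [map_sum, map_sum]
      apply Finset.sum_congr rfl
      intro i _
      rw [aeval_monomial, map_smul, ← Algebra.smul_def]
      rfl
    rw [h1]
    change P.1 ((∑ i : Fin (d + 1), c i • xO ^ (i : ℕ) : P.O) : K) < 1
    rw [← Place.resₗ_eq_zero_iff, map_sum, ← hc]
    apply Finset.sum_congr rfl
    intro i _
    rw [map_smul]
    rfl

variable [Finite k]

instance finite_degreeLT (n : ℕ) : Finite (degreeLT k n) :=
  Finite.of_equiv _ (degreeLTEquiv k n).toEquiv.symm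

/-- over a finite constant field there are finitely many places of bounded degree -/
theorem finite_places_deg_le (hK : IsFunctionField k K) (n : ℕ) :
    {P : Place k K | P.deg ≤ n}.Finite := by
  classical
  obtain ⟨x, hxt, -⟩ := hK.1
  have hx0 : x ≠ 0 := by
    rintro rfl
    exact hxt isAlgebraic_zero
  have hM : {m : k[X] | m.natDegree ≤ n}.Finite := by
    have : {m : k[X] | m.natDegree ≤ n} ⊆ Set.range (fun p : degreeLT k (n + 1) => (p : k[X])) := by
      intro m hm
      refine ⟨⟨m, ?_⟩, rfl⟩
      rw [degreeLT_succ_eq_degreeLE, mem_degreeLE]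
      exact natDegree_le_iff_degree_le.mp hm
    exact (Set.finite_range _).subset this
  have hfin : ({P : Place k K | 1 < P.1 x} ∪
      ⋃ m ∈ {m : k[X] | m.natDegree ≤ n ∧ m ≠ 0}, {P : Place k K | P.1 (aeval x m) < 1}).Finite := by
    apply Set.Finite.union (finite_poles hK hx0)
    apply Set.Finite.biUnion (hM.subset (fun m hm => hm.1))
    intro m hm
    apply finite_zeros hK
    intro h0
    exact hm.2 ((transcendental_iff_injective.mp hxt) (by rw [h0, map_zero]))
  apply hfin.subset
  intro P hP
  by_cases hx : P.1 x ≤ 1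
  · right
    obtain ⟨m, hm0, hmdeg, hmv⟩ := exists_poly_of_val_le hK P hx
    rw [Set.mem_iUnion₂]
    exact ⟨m, ⟨hmdeg.trans hP, hm0⟩, hmv⟩
  · left
    exact not_le.mp hx

end

section

variable {k K : Type*} [Field k] [Field K] [Algebra k K]

open Groth.Agent.Helper9.FFExt

theorem div_zero' (hK : IsFunctionField k K) : div k (0 : K) = 0 := by
  ext P
  rw [div_apply hK]
  simp [FunFld.Place.ord]

/-- principal divisors are exactly the divisors of nonzero functions -/
theorem mem_prinDivs_iff (hK : IsFunctionField k K) (D : Divisor k K) :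
    D ∈ prinDivs k K ↔ ∃ x : K, x ≠ 0 ∧ D = div k x := by
  constructor
  · intro hD
    unfold prinDivs at hD
    induction hD using AddSubgroup.closure_induction with
    | mem D hD =>
      obtain ⟨x, rfl⟩ := hD
      by_cases hx : x = 0
      · refine ⟨1, one_ne_zero, ?_⟩
        rw [hx, div_zero' hK]
        symm
        exact div_eq_zero_of_mem_range hK ⟨1, map_one _⟩
      · exact ⟨x, hx, rfl⟩
    | zero =>
      exact ⟨1, one_ne_zero, (div_eq_zero_of_mem_range hK ⟨1, map_one _⟩).symm⟩
    | add D E _ _ hD hE =>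
      obtain ⟨x, hx, rfl⟩ := hD
      obtain ⟨y, hy, rfl⟩ := hE
      exact ⟨x * y, mul_ne_zero hx hy, (div_mul hK hx hy).symm⟩
    | neg D _ hD =>
      obtain ⟨x, hx, rfl⟩ := hD
      exact ⟨x⁻¹, inv_ne_zero hx, (div_inv hK x).symm⟩
  · rintro ⟨x, -, rfl⟩
    exact AddSubgroup.subset_closure ⟨x, rfl⟩

theorem deg_eq_zero_of_mem_prinDivs (hK : IsFunctionField k K) {D : Divisor k K}
    (hD : D ∈ prinDivs k K) : D.deg = 0 := by
  obtain ⟨x, -, rfl⟩ := (mem_prinDivs_iff hK D).mp hD
  exact deg_div hK x

theorem degHom_apply (D : Divisor k K) : FunFld.degHom k K D = D.deg := by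
  unfold FunFld.degHom Divisor.deg
  rw [Finsupp.liftAddHom_apply]
  rfl

/-- a nonzero function with trivial divisor is a constant -/
theorem exists_const_of_div_eq_zero (hK : IsFunctionField k K) {z : K} (hz : z ≠ 0)
    (h : div k z = 0) : ∃ c : kˣ, z = algebraMap k K c := by
  have hzL : z ∈ L (0 : Divisor k K) := by
    intro P
    have h1 := congrArg (fun D : Divisor k K => D P) h
    simp only [Finsupp.zero_apply] at h1
    rw [div_apply hK] at h1
    rw [Place.val_eq_exp_neg_ord P hz, h1]
    simp
  rw [L_zero hK, Submodule.mem_one] at hzL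
  obtain ⟨c, hc⟩ := hzL
  have hc0 : c ≠ 0 := by
    rintro rfl
    rw [map_zero] at hc
    exact hz hc.symm
  exact ⟨Units.mk0 c hc0, hc.symm⟩

theorem div_algebraMap_eq_zero (hK : IsFunctionField k K) (c : k) :
    div k (algebraMap k K c) = 0 := div_eq_zero_of_mem_range hK ⟨c, rfl⟩

variable [Finite k]

/-- finitely many effective divisors of given degree -/
theorem finite_effDiv (hK : IsFunctionField k K) (n : ℕ) :
    {D : Divisor k K | 0 ≤ D ∧ D.deg = n}.Finite := by
  classical
  set S := (finite_places_deg_le hK n).toFinset with hS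
  apply (Finset.finite_toSet (S.finsupp (fun _ => Finset.Icc (0 : ℤ) n))).subset
  rintro D ⟨hD0, hDn⟩
  rw [Finset.mem_coe, Finset.mem_finsupp_iff]
  have hbound : ∀ P : Place k K, D P * (P.deg : ℤ) ≤ n := by
    intro P
    rw [← hDn]
    exact coeff_mul_deg_le_deg hD0 P
  constructor
  · intro P hP
    rw [Finsupp.mem_support_iff] at hP
    rw [hS, Set.Finite.mem_toFinset, Set.mem_ofPred_eq]
    have h1 : 1 ≤ D P := by
      have := hD0 P
      change (0 : ℤ) ≤ D P at this
      omega
    have h2 := hbound P
    have h3 : (P.deg : ℤ) ≤ D P * (P.deg : ℤ) := by nlinarith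
    exact_mod_cast h3.trans h2
  · intro P _
    rw [Finset.mem_Icc]
    refine ⟨hD0 P, ?_⟩
    have h1 : 1 ≤ (P.deg : ℤ) := by exact_mod_cast Place.deg_pos hK P
    have h2 := hbound P
    have h3 : (0 : ℤ) ≤ D P := hD0 P
    nlinarith

end

section

variable {k K : Type*} [Field k] [Field K] [Algebra k K]

theorem natCard_ne {α : Type*} [Finite α] (a : α) :
    Nat.card {x : α // x ≠ a} = Nat.card α - 1 := by
  classical
  have := Fintype.ofFinite α
  rw [Nat.card_eq_fintype_card, Nat.card_eq_fintype_card, Fintype.card_subtype_compl (· = a),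
    Fintype.card_subtype_eq]

theorem mem_L_of_div_add_nonneg (hK : IsFunctionField k K) {C : Divisor k K} {x : K}
    (hx0 : x ≠ 0) (h : 0 ≤ div k x + C) : x ∈ L C := by
  intro P
  have h1 := h P
  rw [Finsupp.add_apply, div_apply hK] at h1
  change (0 : ℤ) ≤ _ at h1
  rw [Place.val_eq_exp_neg_ord P hx0, exp_le_exp]
  omega

/-- the effective divisors linearly equivalent to `C` -/
def effIn (C : Divisor k K) : Set (Divisor k K) := {D | 0 ≤ D ∧ D - C ∈ prinDivs k K}

theorem exists_rep (hK : IsFunctionField k K) {C D : Divisor k K} (hD : D ∈ effIn C) :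
    ∃ f : K, f ≠ 0 ∧ f ∈ L C ∧ div k f + C = D := by
  obtain ⟨hD0, hDC⟩ := hD
  obtain ⟨x, hx0, hx⟩ := (mem_prinDivs_iff hK _).mp hDC
  have h1 : div k x + C = D := by rw [← hx]; abel
  exact ⟨x, hx0, mem_L_of_div_add_nonneg hK hx0 (by rw [h1]; exact hD0), h1⟩

theorem div_smul_units (hK : IsFunctionField k K) (u : kˣ) {f : K} (hf : f ≠ 0) :
    div k ((u : k) • f) = div k f := by
  rw [Algebra.smul_def, Groth.Agent.Lib.Helper4.FF.div_mul hK
    ((_root_.map_ne_zero (algebraMap k K)).mpr u.ne_zero) hf, div_algebraMap_eq_zero hK,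
    zero_add]

variable [Finite k]

/-- the number of effective divisors in a class -/
theorem card_effIn (hK : IsFunctionField k K) (C : Divisor k K) :
    (Nat.card k - 1) * Nat.card (effIn (k := k) (K := K) C) = Nat.card k ^ ell C - 1 := by
  classical
  have hfinL := L_finite hK C
  choose rep hrep0 hrepL hrepD using fun D : effIn (k := k) (K := K) C => exists_rep hK D.2
  let φ : effIn (k := k) (K := K) C × kˣ → {f : L C // f ≠ 0} := fun p =>
    ⟨⟨(p.2 : k) • rep p.1, (L C).smul_mem _ (hrepL p.1)⟩, by
      intro h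
      have h1 : (p.2 : k) • rep p.1 = 0 := congrArg Subtype.val h
      rcases smul_eq_zero.mp h1 with h2 | h2
      · exact p.2.ne_zero h2
      · exact hrep0 p.1 h2⟩
  have hφval : ∀ p, ((φ p : L C) : K) = (p.2 : k) • rep p.1 := fun p => rfl
  have hinj : Function.Injective φ := by
    rintro ⟨D, u⟩ ⟨D', u'⟩ h
    have h1 : (u : k) • rep D = (u' : k) • rep D' := by
      have := congrArg (fun f : {f : L C // f ≠ 0} => ((f : L C) : K)) h
      exact this
    have h2 : div k (rep D) = div k (rep D') := by
      rw [← div_smul_units hK u (hrep0 D), h1, div_smul_units hK u' (hrep0 D')]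
    have h3 : D = D' := by
      apply Subtype.ext
      rw [← hrepD D, ← hrepD D', h2]
    subst h3
    have h4 : (u : k) = u' := by
      have h5 : ((u : k) - u') • rep D = 0 := by rw [sub_smul, h1, sub_self]
      rcases smul_eq_zero.mp h5 with h6 | h6
      · exact sub_eq_zero.mp h6
      · exact absurd h6 (hrep0 D)
    rw [Units.ext h4]
  have hsurj : Function.Surjective φ := by
    rintro ⟨⟨f, hfL⟩, hf0⟩
    have hf0' : f ≠ 0 := fun h => hf0 (Subtype.ext h)
    have hD : div k f + C ∈ effIn (k := k) (K := K) C := by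
      refine ⟨div_add_nonneg_of_mem_L hK hf0' hfL, ?_⟩
      rw [add_sub_cancel_right]
      exact (mem_prinDivs_iff hK _).mpr ⟨f, hf0', rfl⟩
    set D : effIn (k := k) (K := K) C := ⟨_, hD⟩ with hDdef
    have h1 : div k (f * (rep D)⁻¹) = 0 := by
      rw [div_mul hK hf0' (inv_ne_zero (hrep0 D)), div_inv hK]
      have h2 := hrepD D
      have h3 : div k (rep D) = div k f := by
        have : div k (rep D) + C = div k f + C := h2
        exact add_right_cancel this
      rw [h3, add_neg_cancel]
    obtain ⟨c, hc⟩ := exists_const_of_div_eq_zero hK (mul_ne_zero hf0' (inv_ne_zero (hrep0 D))) h1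
    refine ⟨(D, c), ?_⟩
    apply Subtype.ext
    apply Subtype.ext
    rw [hφval]
    change (c : k) • rep D = f
    rw [Algebra.smul_def, ← hc, mul_assoc, inv_mul_cancel₀ (hrep0 D), mul_one]
  have hfinLC : Finite (L C) := Module.finite_of_finite k
  have hcard := Nat.card_congr (Equiv.ofBijective φ ⟨hinj, hsurj⟩)
  rw [Nat.card_prod, Nat.card_units, natCard_ne (0 : L C),
    Module.natCard_eq_pow_finrank (K := k) (V := L C)] at hcard
  rw [mul_comm, hcard]
  rfl

end

end Groth.Agent.Helper9.Zeta
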