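import Mathlib
import Groth.Agent.Lib.Helper9.Zeta.Zeta1

/-! Zeta functions, part 2: finiteness of the class group and the number of effective divisors of
large degree. -/

namespace Groth.Agent.Helper9.Zeta

open FunFld Groth.Agent.Lib.Helper4.FF WithZero Polynomial

section

variable {k K : Type*} [Field k] [Field K] [Algebra k K]

/-- the class group of degree zero -/
abbrev Cl0 (k K : Type*) [Field k] [Field K] [Algebra k K] : Type _ :=
  (FunFld.degHom k K).ker ⧸ (prinDivs k K).addSubgroupOf (FunFld.degHom k K).ker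

theorem mem_ker_degHom (D : Divisor k K) : D ∈ (FunFld.degHom k K).ker ↔ D.deg = 0 := by
  rw [AddMonoidHom.mem_ker, degHom_apply]

/-- the class of `D - D₀` for a divisor `D` of the same degree as `D₀` -/
noncomputable def clsSub (D₀ : Divisor k K) (D : Divisor k K) (h : D.deg = D₀.deg) : Cl0 k K :=
  QuotientAddGroup.mk ⟨D - D₀, (mem_ker_degHom _).mpr (by rw [Divisor.deg_sub, h, sub_self])⟩

theorem clsSub_eq_iff (D₀ : Divisor k K) (D : Divisor k K) (h : D.deg = D₀.deg)
    (B : (FunFld.degHom k K).ker) :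
    clsSub D₀ D h = QuotientAddGroup.mk B ↔ D - (D₀ + B.1) ∈ prinDivs k K := by
  unfold clsSub
  rw [QuotientAddGroup.eq, AddSubgroup.mem_addSubgroupOf]
  have e : ((-(⟨D - D₀, (mem_ker_degHom _).mpr (by rw [Divisor.deg_sub, h, sub_self])⟩ :
      (FunFld.degHom k K).ker) + B : (FunFld.degHom k K).ker) : Divisor k K) =
      -(D - (D₀ + B.1)) := by
    push_cast
    abel
  rw [e, neg_mem_iff]

variable [Finite k]

/-- the class group is finite -/
theorem finite_Cl0 (hK : IsFunctionField k K) : Finite (Cl0 k K) := by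
  classical
  obtain ⟨x, hxt, -⟩ := hK.1
  obtain ⟨P₁, -⟩ := exists_zero hK hxt
  set g := genus k K with hg
  set D₁ : Divisor k K := Finsupp.single P₁ (g : ℤ) with hD₁
  have hdeg₁ : D₁.deg = ((g * P₁.deg : ℕ) : ℤ) := by
    rw [hD₁, Divisor.deg_single]
    push_cast
    ring
  have hge : (g : ℤ) ≤ D₁.deg := by
    rw [hdeg₁]
    have := Place.deg_pos hK P₁
    have h1 : g * 1 ≤ g * P₁.deg := Nat.mul_le_mul_left g this
    exact_mod_cast (by omega : g ≤ g * P₁.deg)
  have hfinA := finite_effDiv hK (g * P₁.deg)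
  have : Finite {D : Divisor k K | 0 ≤ D ∧ D.deg = ((g * P₁.deg : ℕ) : ℤ)} := hfinA.to_subtype
  let ψ : {D : Divisor k K | 0 ≤ D ∧ D.deg = ((g * P₁.deg : ℕ) : ℤ)} → Cl0 k K :=
    fun D => clsSub D₁ D.1 (by rw [D.2.2, hdeg₁])
  apply Finite.of_surjective ψ
  intro q
  obtain ⟨B, rfl⟩ := QuotientAddGroup.mk_surjective q
  have hB : B.1.deg = 0 := (mem_ker_degHom _).mp B.2
  have hell : 0 < ell (B.1 + D₁) := by
    have := le_genus hK (B.1 + D₁)
    rw [Divisor.deg_add, hB] at this
    have h2 : (0 : ℤ) < (ell (B.1 + D₁) : ℤ) := by omega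
    exact_mod_cast h2
  obtain ⟨f, hfL, hf0⟩ := exists_ne_zero_of_ell_pos hell
  have hD0 := div_add_nonneg_of_mem_L hK hf0 hfL
  have hDdeg : (div k f + (B.1 + D₁)).deg = ((g * P₁.deg : ℕ) : ℤ) := by
    rw [Divisor.deg_add, deg_div hK, Divisor.deg_add, hB, hdeg₁]
    ring
  refine ⟨⟨div k f + (B.1 + D₁), hD0, hDdeg⟩, ?_⟩
  change clsSub D₁ (div k f + (B.1 + D₁)) _ = _
  rw [clsSub_eq_iff]
  have e : div k f + (B.1 + D₁) - (D₁ + B.1) = div k f := by abel
  rw [e]
  exact (mem_prinDivs_iff hK _).mpr ⟨f, hf0, rfl⟩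

end

section

variable {k K : Type*} [Field k] [Field K] [Algebra k K] [Finite k]

/-- the number of effective divisors of degree `n ≥ 2g - 1`, when `n` is a degree -/
theorem card_effDiv (hK : IsFunctionField k K) (n : ℕ) (hn : 2 * genus k K ≤ n + 1)
    (D₀ : Divisor k K) (hD₀ : D₀.deg = n) :
    (Nat.card k - 1) * effDivCount k K n =
      Nat.card (Cl0 k K) * (Nat.card k ^ (n + 1 - genus k K) - 1) := by
  classical
  have hfinCl := finite_Cl0 (k := k) hK
  have := Fintype.ofFinite (Cl0 k K)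
  have hfinA : Finite {D : Divisor k K // 0 ≤ D ∧ D.deg = n} := (finite_effDiv hK n).to_subtype
  let π : {D : Divisor k K // 0 ≤ D ∧ D.deg = n} → Cl0 k K :=
    fun D => clsSub D₀ D.1 (by rw [D.2.2, hD₀])
  have hcard1 : effDivCount k K n = ∑ q : Cl0 k K, Nat.card {D // π D = q} := by
    unfold effDivCount
    rw [← Nat.card_sigma]
    exact Nat.card_congr (Equiv.sigmaFiberEquiv π).symm
  -- each fibre
  have hfib : ∀ q : Cl0 k K, (Nat.card k - 1) * Nat.card {D // π D = q} =
      Nat.card k ^ (n + 1 - genus k K) - 1 := by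
    intro q
    obtain ⟨B, rfl⟩ := QuotientAddGroup.mk_surjective q
    have hBdeg : B.1.deg = 0 := (mem_ker_degHom _).mp B.2
    have hequiv : {D // π D = QuotientAddGroup.mk B} ≃ effIn (k := k) (K := K) (D₀ + B.1) :=
      { toFun := fun D => ⟨D.1.1, D.1.2.1, by
          exact (clsSub_eq_iff D₀ D.1.1 _ B).mp D.2⟩
        invFun := fun E => ⟨⟨E.1, E.2.1, by
            have h1 := deg_eq_zero_of_mem_prinDivs hK E.2.2
            rw [Divisor.deg_sub, Divisor.deg_add, hBdeg, hD₀] at h1
            linarith⟩, by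
          exact (clsSub_eq_iff D₀ E.1 _ B).mpr E.2.2⟩
        left_inv := fun D => rfl
        right_inv := fun E => rfl }
    rw [Nat.card_congr hequiv, card_effIn hK]
    congr 2
    have h1 := ell_eq_of_deg_ge hK (D := D₀ + B.1) (by
      rw [Divisor.deg_add, hBdeg, hD₀]
      have : (2 * genus k K : ℤ) ≤ (n : ℤ) + 1 := by exact_mod_cast hn
      linarith)
    rw [Divisor.deg_add, hBdeg, hD₀] at h1
    have h2 : (ell (D₀ + B.1) : ℤ) = ((n + 1 - genus k K : ℕ) : ℤ) := by
      rw [h1]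
      have : genus k K ≤ n + 1 := by omega
      push_cast [this]
      ring
    exact_mod_cast h2
  rw [hcard1, Finset.mul_sum]
  rw [Finset.sum_congr rfl (fun q _ => hfib q), Finset.sum_const, Finset.card_univ, smul_eq_mul,
    ← Nat.card_eq_fintype_card]

end

end Groth.Agent.Helper9.Zeta
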