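import Mathlib
import Groth.Prelude.Def_W4bk4goldsch45
import Groth.Agent.Lib.Helper9.FFExt.ConstExt15
import Groth.Agent.Lib.Helper9.Zeta.Zeta2

/-! Constant field extensions, part 1: the extended field is again a function field. -/

namespace Groth.Agent.Helper9.Zeta

open FunFld Groth.Agent.Lib.Helper4.FF Groth.Agent.Helper9.FFExt WithZero Polynomial TensorProduct

section AlgClosedIn

variable {k K : Type*} [Field k] [Field K] [Algebra k K]

/-- an irreducible polynomial over `k` stays irreducible over `K` when `k` is algebraically closed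
in `K` -/
theorem irreducible_map_of_algClosedIn
    (hcl : ∀ y : K, IsAlgebraic k y → y ∈ Set.range (algebraMap k K))
    {μ : k[X]} (hμ : Irreducible μ) (hm : μ.Monic) :
    Irreducible (μ.map (algebraMap k K)) := by
  have hinj : Function.Injective (algebraMap k K) := (algebraMap k K).injective
  have hmon : (μ.map (algebraMap k K)).Monic := hm.map _
  rw [Polynomial.Monic.irreducible_iff_natDegree' hmon]
  refine ⟨?_, ?_⟩
  · intro h1
    have : μ.map (algebraMap k K) = 1 := h1
    have h2 : μ = 1 := by
      apply Polynomial.map_injective _ hinj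
      rw [this, Polynomial.map_one]
    exact hμ.not_isUnit (h2 ▸ isUnit_one)
  · intro a b ha hb hab
    -- `a` has coefficients in `k`
    have hlift : ∀ c : K[X], c.Monic → c ∣ μ.map (algebraMap k K) →
        ∃ c₀ : k[X], c₀.map (algebraMap k K) = c := by
      intro c hc hdvd
      have h1 := integralClosure.mem_lifts_of_monic_of_dvd_map K hm hc hdvd
      rw [lifts_iff_coeff_lifts] at h1
      have h2 : ∀ n, c.coeff n ∈ Set.range (algebraMap k K) := by
        intro n
        obtain ⟨z, hz⟩ := h1 n
        apply hcl
        have : IsIntegral k (c.coeff n) := by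
          rw [← hz]
          exact z.2
        exact this.isAlgebraic
      have h3 : c ∈ lifts (algebraMap k K) := (lifts_iff_coeff_lifts c).mpr h2
      exact h3
    obtain ⟨a₀, ha₀⟩ := hlift a ha ⟨b, hab.symm⟩
    obtain ⟨b₀, hb₀⟩ := hlift b hb ⟨a, by rw [mul_comm]; exact hab.symm⟩
    have hμab : μ = a₀ * b₀ := by
      apply Polynomial.map_injective _ hinj
      rw [Polynomial.map_mul, ha₀, hb₀, hab]
    have hdeg : (μ.map (algebraMap k K)).natDegree = a.natDegree + b.natDegree := by
      rw [← hab, natDegree_mul ha.ne_zero hb.ne_zero]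
    intro hcon
    rw [Finset.mem_Ioc] at hcon
    rcases hμ.isUnit_or_isUnit hμab with h | h
    · have : a₀.natDegree = 0 := natDegree_eq_zero_of_isUnit h
      have h2 : a.natDegree = 0 := by rw [← ha₀, natDegree_map]; exact this
      omega
    · have : b₀.natDegree = 0 := natDegree_eq_zero_of_isUnit h
      have h2 : b.natDegree = 0 := by rw [← hb₀, natDegree_map]; exact this
      omega

end AlgClosedIn

section Generic

variable {k k' K K' : Type*} [Field k] [Field k'] [Field K] [Field K']
  [Algebra k k'] [Algebra k K] [Algebra K K'] [Algebra k' K'] [Algebra k K']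
  [IsScalarTower k k' K'] [IsScalarTower k K K']
  [FiniteDimensional k k'] [Algebra.IsSeparable k k']

/-- in a separable constant field extension `K' = k' K` the field `k'` is algebraically closed -/
theorem algClosedIn_constExt (h : Function.Bijective (pm k k' K K'))
    (hcl : ∀ y : K, IsAlgebraic k y → y ∈ Set.range (algebraMap k K))
    (y : K') (hy : IsAlgebraic k' y) : y ∈ Set.range (algebraMap k' K') := by
  classical
  have hfin := finite_of_bij h
  have hyk : IsAlgebraic k y := hy.restrictScalars k
  let b := Module.finBasis k k'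
  set B := constBasis h b with hB
  have hcoord : ∀ i, ∃ d : k, algebraMap k K d = B.repr y i := by
    intro i
    have h1 := repr_eq_trace h b y i
    set β := (Algebra.traceForm k k').dualBasis (traceForm_nondegenerate k k') b i with hβ
    have h2 : IsIntegral k (y * algebraMap k' K' β) := by
      apply IsIntegral.mul hyk.isIntegral
      have : IsIntegral k β := IsIntegral.of_finite k β
      exact this.map (IsScalarTower.toAlgHom k k' K')
    have h3 : IsIntegral k (Algebra.trace K K' (y * algebraMap k' K' β)) :=
      Algebra.isIntegral_trace h2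
    obtain ⟨d, hd⟩ := hcl _ h3.isAlgebraic
    exact ⟨d, by rw [hd, hB, h1]⟩
  choose d hd using hcoord
  refine ⟨∑ i, d i • b i, ?_⟩
  rw [map_sum]
  conv_rhs => rw [← B.sum_repr y]
  apply Finset.sum_congr rfl
  intro i _
  rw [← hd i, hB, constBasis_apply, Algebra.smul_def, Algebra.smul_def, map_mul,
    ← IsScalarTower.algebraMap_apply, ← IsScalarTower.algebraMap_apply]

/-- the image of `k(x)` lies in `k'(x)` -/
theorem algebraMap_mem_adjoin (x : K) {z : K} (hz : z ∈ IntermediateField.adjoin k ({x} : Set K)) :
    algebraMap K K' z ∈ IntermediateField.adjoin k' ({algebraMap K K' x} : Set K') := by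
  let E' : IntermediateField k K' :=
    (IntermediateField.adjoin k' ({algebraMap K K' x} : Set K')).restrictScalars k
  let E : IntermediateField k K := E'.comap (IsScalarTower.toAlgHom k K K')
  have hx : x ∈ E := by
    change algebraMap K K' x ∈ IntermediateField.adjoin k' ({algebraMap K K' x} : Set K')
    exact IntermediateField.mem_adjoin_simple_self k' _
  have hle : IntermediateField.adjoin k ({x} : Set K) ≤ E := by
    rw [IntermediateField.adjoin_simple_le_iff]
    exact hx
  exact hle hz

/-- a separable constant field extension of a function field is a function field -/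
theorem isFunctionField_constExt (h : Function.Bijective (pm k k' K K'))
    (hK : IsFunctionField k K) : IsFunctionField k' K' := by
  refine ⟨?_, algClosedIn_constExt h hK.2⟩
  obtain ⟨x, hxt, hxfin⟩ := hK.1
  have hfin := finite_of_bij h
  refine ⟨algebraMap K K' x, ?_, ?_⟩
  · intro halg
    have h1 : IsAlgebraic k (algebraMap K K' x) := halg.restrictScalars k
    exact hxt ((isAlgebraic_algebraMap_iff (algebraMap K K').injective).mp h1)
  · set F := IntermediateField.adjoin k ({x} : Set K) with hF
    set F' := IntermediateField.adjoin k' ({algebraMap K K' x} : Set K') with hF'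
    have hfin1 : Module.Finite F K' := Module.Finite.trans K K'
    let φ : F →+* F' := ((algebraMap K K').comp (algebraMap F K)).codRestrict F'.toSubfield
      (fun z => algebraMap_mem_adjoin x z.2)
    let _ : Algebra F F' := φ.toAlgebra
    have htower2 : IsScalarTower F F' K' := IsScalarTower.of_algebraMap_eq fun z => rfl
    exact Module.Finite.of_restrictScalars_finite F F' K'

end Generic

section Construct

variable {k K : Type*} [Field k] [Field K] [Algebra k K] (μ : k[X])

/-- `K[X]/(μ)` as an algebra over `k[X]/(μ)` -/
@[reducible] noncomputable def ceAlg :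
    Algebra (AdjoinRoot μ) (AdjoinRoot (μ.map (algebraMap k K))) :=
  (AdjoinRoot.map (algebraMap k K) μ (μ.map (algebraMap k K)) dvd_rfl).toAlgebra

attribute [local instance] ceAlg

theorem ceAlg_root : algebraMap (AdjoinRoot μ) (AdjoinRoot (μ.map (algebraMap k K))) (AdjoinRoot.root μ) =
    AdjoinRoot.root (μ.map (algebraMap k K)) := by
  change AdjoinRoot.map (algebraMap k K) μ (μ.map (algebraMap k K)) dvd_rfl (AdjoinRoot.root μ) = _
  rw [AdjoinRoot.map_root]

theorem ceAlg_of (c : k) : algebraMap (AdjoinRoot μ) (AdjoinRoot (μ.map (algebraMap k K)))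
    (AdjoinRoot.of μ c) = AdjoinRoot.of (μ.map (algebraMap k K)) (algebraMap k K c) := by
  change AdjoinRoot.map (algebraMap k K) μ (μ.map (algebraMap k K)) dvd_rfl (AdjoinRoot.of μ c) = _
  rw [AdjoinRoot.map_of]

theorem ce_tower : IsScalarTower k (AdjoinRoot μ) (AdjoinRoot (μ.map (algebraMap k K))) := by
  refine IsScalarTower.of_algebraMap_eq fun c => ?_
  rw [AdjoinRoot.algebraMap_eq' , AdjoinRoot.algebraMap_eq, RingHom.comp_apply, ceAlg_of]

theorem ce_bijective (hm : μ.Monic) [Fact (Irreducible μ)]
    [Fact (Irreducible (μ.map (algebraMap k K)))] :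
    haveI := ce_tower (K := K) μ
    Function.Bijective (pm k (AdjoinRoot μ) K (AdjoinRoot (μ.map (algebraMap k K)))) := by
  haveI := ce_tower (K := K) μ
  have hm' : (μ.map (algebraMap k K)).Monic := hm.map _
  have hdeg : (μ.map (algebraMap k K)).natDegree = μ.natDegree := natDegree_map _
  let b : Module.Basis (Fin μ.natDegree) k (AdjoinRoot μ) := (AdjoinRoot.powerBasis' hm).basis
  let B₀ : Module.Basis (Fin (μ.map (algebraMap k K)).natDegree) K
      (AdjoinRoot (μ.map (algebraMap k K))) := (AdjoinRoot.powerBasis' hm').basis
  let B := B₀.reindex (finCongr hdeg)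
  have hbpow : ∀ i, b i = AdjoinRoot.root μ ^ (i : ℕ) := by
    intro i
    have := (AdjoinRoot.powerBasis' hm).basis_eq_pow i
    rw [AdjoinRoot.powerBasis'_gen] at this
    exact this
  have hBpow : ∀ i, B₀ i = AdjoinRoot.root (μ.map (algebraMap k K)) ^ (i : ℕ) := by
    intro i
    have := (AdjoinRoot.powerBasis' hm').basis_eq_pow i
    rw [AdjoinRoot.powerBasis'_gen] at this
    exact this
  have hb : (fun i => algebraMap (AdjoinRoot μ) (AdjoinRoot (μ.map (algebraMap k K))) (b i)) = B := by
    funext i
    rw [hbpow, map_pow, ceAlg_root, Module.Basis.reindex_apply, hBpow]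
    rfl
  apply bijective_pm_of_basis b
  · rw [hb]
    exact B.linearIndependent
  · rw [hb, B.span_eq]

end Construct

end Groth.Agent.Helper9.Zeta
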