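import Mathlib

/-! Pairing up an inversion-stable multiset of complex numbers. -/

namespace Groth.Agent.Helper9.Zeta

/-- `M` can be enumerated by `α : Fin (2g) → ℂ` with `α i * α (rev i) = q` -/
def Enum (q : ℂ) (g : ℕ) (M : Multiset ℂ) : Prop :=
  ∃ α : Fin (2 * g) → ℂ, Multiset.map α Finset.univ.val = M ∧ ∀ i, α i * α (Fin.rev i) = q

theorem enum_zero (q : ℂ) : Enum q 0 0 :=
  ⟨fun i => i.elim0, by simp, fun i => i.elim0⟩

theorem enum_wrap {q : ℂ} {g : ℕ} {M : Multiset ℂ} (h : Enum q g M) {β γ : ℂ} (hβγ : β * γ = q) :
    Enum q (g + 1) (β ::ₘ γ ::ₘ M) := by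
  obtain ⟨α, hα, hpair⟩ := h
  let α' : Fin (2 * g + 1 + 1) → ℂ := Fin.cons β (Fin.snoc α γ)
  refine ⟨α', ?_, ?_⟩
  · change Multiset.map α' (Finset.univ : Finset (Fin (2 * g + 1 + 1))).val = _
    rw [Fin.univ_val_map, List.ofFn_succ, List.ofFn_succ']
    simp only [α', Fin.cons_zero, Fin.cons_succ, Fin.snoc_castSucc, Fin.snoc_last]
    rw [← hα, Fin.univ_val_map, List.concat_eq_append, ← Multiset.cons_coe]
    congr 1
    rw [← Multiset.coe_add, add_comm]
    rfl
  · intro i
    change Fin (2 * g + 1 + 1) at i
    change α' i * α' (Fin.rev i) = q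
    induction i using Fin.cases with
    | zero =>
      rw [Fin.rev_zero, ← Fin.succ_last]
      simp only [α', Fin.cons_zero, Fin.cons_succ, Fin.snoc_last]
      exact hβγ
    | succ j =>
      induction j using Fin.lastCases with
      | last =>
        rw [Fin.succ_last, Fin.rev_last]
        simp only [α', Fin.cons_zero]
        rw [← Fin.succ_last, Fin.cons_succ, Fin.snoc_last, mul_comm]
        exact hβγ
      | cast i' =>
        rw [Fin.rev_succ, Fin.rev_castSucc, ← Fin.succ_castSucc]
        simp only [α', Fin.cons_succ, Fin.snoc_castSucc]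
        exact hpair i'

theorem enum_replicate {q : ℂ} {g : ℕ} {M : Multiset ℂ} (h : Enum q g M) {s : ℂ} (hs : s * s = q)
    (n : ℕ) : Enum q (g + n) (Multiset.replicate (2 * n) s + M) := by
  induction n with
  | zero => simpa using h
  | succ n ih =>
    have := enum_wrap ih hs
    have e : Multiset.replicate (2 * (n + 1)) s + M =
        s ::ₘ s ::ₘ (Multiset.replicate (2 * n) s + M) := by
      rw [show 2 * (n + 1) = 2 * n + 1 + 1 by ring, Multiset.replicate_succ,
        Multiset.replicate_succ, Multiset.cons_add, Multiset.cons_add]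
    rw [e]
    exact this

/-- the case where every element is a square root of `q` -/
theorem enum_of_fixed {q : ℂ} (hq : q ≠ 0) {g : ℕ} {M : Multiset ℂ} (hcard : Multiset.card M = 2 * g)
    (hfix : ∀ a ∈ M, a * a = q) (hprod : M.prod = q ^ g) : Enum q g M := by
  classical
  rcases Multiset.empty_or_exists_mem M with h0 | ⟨s, hsM⟩
  · subst h0
    have : g = 0 := by simpa using hcard.symm
    subst this
    exact enum_zero q
  have hs : s * s = q := hfix s hsM
  have hs0 : s ≠ 0 := by
    rintro rfl
    rw [mul_zero] at hs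
    exact hq hs.symm
  have hsplit : M = Multiset.filter (fun x => x = s) M + Multiset.filter (fun x => ¬ x = s) M :=
    (Multiset.filter_add_not _ M).symm
  have h1 : Multiset.filter (fun x => x = s) M = Multiset.replicate (Multiset.count s M) s :=
    Multiset.filter_eq' M s
  have h2 : Multiset.filter (fun x => ¬ x = s) M =
      Multiset.replicate (Multiset.card (Multiset.filter (fun x => ¬ x = s) M)) (-s) := by
    rw [Multiset.eq_replicate_card]
    intro x hx
    rw [Multiset.mem_filter] at hx
    have h3 : x * x = s * s := by rw [hfix x hx.1, hs]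
    have h4 : (x - s) * (x + s) = 0 := by ring_nf; ring_nf at h3; rw [h3]; ring
    rcases mul_eq_zero.mp h4 with h | h
    · exact absurd (sub_eq_zero.mp h) hx.2
    · exact eq_neg_of_add_eq_zero_left h
  set A := Multiset.count s M with hA
  set B := Multiset.card (Multiset.filter (fun x => ¬ x = s) M) with hB
  rw [h1, h2] at hsplit
  have hAB : A + B = 2 * g := by
    rw [← hcard]
    conv_rhs => rw [hsplit]
    rw [Multiset.card_add, Multiset.card_replicate, Multiset.card_replicate]
  have hprod2 : s ^ A * (-s) ^ B = q ^ g := by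
    rw [← hprod]
    conv_rhs => rw [hsplit]
    rw [Multiset.prod_add, Multiset.prod_replicate, Multiset.prod_replicate]
  have hqg : s ^ A * s ^ B = q ^ g := by
    rw [← pow_add, hAB, pow_mul, pow_two, hs]
  have hneg : (-1 : ℂ) ^ B = 1 := by
    have h5 : (-s) ^ B = (-1) ^ B * s ^ B := by rw [← mul_pow]; simp
    rw [h5] at hprod2
    have h6 : (-1 : ℂ) ^ B * q ^ g = 1 * q ^ g := by
      rw [one_mul, ← hqg]
      linear_combination hprod2 - hqg
    exact mul_right_cancel₀ (pow_ne_zero g hq) h6
  have hBeven : Even B := by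
    rw [← neg_one_pow_eq_one_iff_even (R := ℂ) (by norm_num)]
    exact hneg
  obtain ⟨b', hb'⟩ := hBeven
  have hAeven : Even A := by
    have : Even (A + B) := by rw [hAB]; exact even_two_mul g
    rw [hb'] at this
    exact (Nat.even_add.mp this).mpr (Even.add_self b')
  obtain ⟨a', ha'⟩ := hAeven
  have hneg2 : (-s) * (-s) = q := by rw [neg_mul_neg, hs]
  have e1 := enum_replicate (enum_zero q) hneg2 b'
  have e2 := enum_replicate e1 hs a'
  have hg : g = 0 + b' + a' := by omega
  rw [hsplit, hg, ha', hb', ← two_mul, ← two_mul]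
  simpa using e2

/-- pairing up a multiset stable under `a ↦ q / a` -/
theorem enum_of_stable {q : ℂ} (hq : q ≠ 0) : ∀ (g : ℕ) (M : Multiset ℂ),
    Multiset.card M = 2 * g → (∀ a ∈ M, a ≠ 0) → M.map (fun a => q / a) = M → M.prod = q ^ g →
    Enum q g M := by
  classical
  intro g
  induction g with
  | zero =>
    intro M hcard _ _ _
    have : M = 0 := by simpa using hcard
    subst this
    exact enum_zero q
  | succ g ih =>
    intro M hcard hne hst hprod
    by_cases hfix : ∀ a ∈ M, a * a = q
    · exact enum_of_fixed hq hcard hfix hprod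
    push Not at hfix
    obtain ⟨a, haM, haq⟩ := hfix
    have ha0 := hne a haM
    have hbM : q / a ∈ M := by
      rw [← hst]
      exact Multiset.mem_map_of_mem _ haM
    have hba : q / a ≠ a := by
      intro h
      apply haq
      field_simp at h
      rw [← pow_two]
      exact h.symm
    obtain ⟨M₁, hM₁⟩ := Multiset.exists_cons_of_mem haM
    have hbM₁ : q / a ∈ M₁ := by
      rw [hM₁, Multiset.mem_cons] at hbM
      rcases hbM with h | h
      · exact absurd h hba
      · exact h
    obtain ⟨M', hM'⟩ := Multiset.exists_cons_of_mem hbM₁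
    rw [hM'] at hM₁
    subst hM₁
    have hab : a * (q / a) = q := by field_simp
    apply enum_wrap _ hab
    apply ih M'
    · simp only [Multiset.card_cons] at hcard
      omega
    · intro x hx
      exact hne x (Multiset.mem_cons_of_mem (Multiset.mem_cons_of_mem hx))
    · rw [Multiset.map_cons, Multiset.map_cons] at hst
      have e : q / (q / a) = a := by field_simp
      rw [e, Multiset.cons_swap] at hst
      exact (Multiset.cons_inj_right _).mp ((Multiset.cons_inj_right _).mp hst)
    · rw [Multiset.prod_cons, Multiset.prod_cons, ← mul_assoc, hab, pow_succ] at hprod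
      have : q * M'.prod = q * q ^ g := by rw [hprod]; ring
      exact mul_left_cancel₀ hq this

end Groth.Agent.Helper9.Zeta
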