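import Mathlib
import Groth.Prelude.Def_W4bk4goldsch45
import Groth.Agent.Lib.Helper9.Zeta.CE1

/-! Constant field extensions, part 2: places of `K'/k'` versus places of `K'/k`; residue degrees
over a finite constant field. -/

namespace Groth.Agent.Helper9.Zeta

open FunFld Groth.Agent.Lib.Helper4.FF Groth.Agent.Helper9.FFExt WithZero Polynomial TensorProduct

section UpDown

variable {k k' K' : Type*} [Field k] [Field k'] [Field K']
  [Algebra k k'] [Algebra k' K'] [Algebra k K'] [IsScalarTower k k' K']

/-- a place over `k'` is a place over `k` -/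
def downC (Q' : Place k' K') : Place k K' :=
  ⟨Q'.1, fun c => by
    rw [IsScalarTower.algebraMap_apply k k' K']
    exact Q'.2.1 _, Q'.2.2⟩

/-- a place over `k` is a place over an algebraic extension `k'` of `k` -/
def upC [Algebra.IsAlgebraic k k'] (Q : Place k K') : Place k' K' :=
  ⟨Q.1, fun c => val_le_one_of_isAlgebraic Q ((Algebra.IsAlgebraic.isAlgebraic c).algebraMap),
    Q.2.2⟩

@[simp] lemma downC_val (Q' : Place k' K') : (downC (k := k) Q').1 = Q'.1 := rfl
@[simp] lemma upC_val [Algebra.IsAlgebraic k k'] (Q : Place k K') : (upC (k' := k') Q).1 = Q.1 := rfl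
@[simp] lemma upC_downC [Algebra.IsAlgebraic k k'] (Q' : Place k' K') :
    upC (downC (k := k) Q') = Q' := Subtype.ext rfl
@[simp] lemma downC_upC [Algebra.IsAlgebraic k k'] (Q : Place k K') :
    downC (upC (k' := k') Q) = Q := Subtype.ext rfl

/-- places over `k'` and over `k` coincide -/
def placeEquivC [Algebra.IsAlgebraic k k'] : Place k' K' ≃ Place k K' where
  toFun := downC
  invFun := upC
  left_inv := upC_downC
  right_inv := downC_upC

lemma deg_downC (Q' : Place k' K') :
    (downC (k := k) Q').deg = Module.finrank k k' * Q'.deg :=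
  @finrank_tower_general k k' (IsLocalRing.ResidueField Q'.O) _ _ _ _
    (Place.algRes Q') (Place.algRes (downC (k := k) Q'))
    (@IsScalarTower.of_algebraMap_eq k k' (IsLocalRing.ResidueField Q'.O) _ _ _ _
      (Place.algRes Q') (Place.algRes (downC (k := k) Q')) fun c => by
        change IsLocalRing.residue _ _ = IsLocalRing.residue _ _
        congr 1
        apply Subtype.ext
        exact IsScalarTower.algebraMap_apply k k' K' c)

end UpDown

section FiniteField

/-- the compositum of finite fields of degrees `m`, `r` over `k` has degree `lcm m r` -/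
theorem finrank_eq_lcm_of_closure {k A B F : Type*} [Field k] [Finite k] [Field A] [Field B] [Field F]
    [Algebra k A] [Algebra k B] [Algebra k F] [Algebra A F] [Algebra B F]
    [IsScalarTower k A F] [IsScalarTower k B F]
    [FiniteDimensional k A] [FiniteDimensional k B]
    (hgen : ∀ ξ : F, ξ ∈ Subring.closure (Set.range (algebraMap A F) ∪ Set.range (algebraMap B F))) :
    Module.finrank k F = Nat.lcm (Module.finrank k A) (Module.finrank k B) := by
  classical
  obtain ⟨p, hchar⟩ := CharP.exists k
  have hp : p.Prime := by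
    have := Fintype.ofFinite k
    exact CharP.char_is_prime k p
  have := Fact.mk hp
  have := Fintype.ofFinite k
  obtain ⟨a, ha⟩ : ∃ a : ℕ+, Nat.card k = p ^ (a : ℕ) := by
    obtain ⟨n, hn⟩ := FiniteField.card k p
    exact ⟨n, by rw [Nat.card_eq_fintype_card]; exact hn.2⟩
  set q := Nat.card k with hq
  have hq1 : 1 < q := Finite.one_lt_card
  set m := Module.finrank k A with hm
  set r := Module.finrank k B with hr
  have hm0 : 0 < m := Module.finrank_pos
  have hr0 : 0 < r := Module.finrank_pos
  set L := Nat.lcm m r with hL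
  have hL0 : 0 < L := Nat.lcm_pos hm0 hr0
  have : CharP F p := charP_of_injective_algebraMap (algebraMap k F).injective p
  have hfinA : Finite A := Module.finite_of_finite k
  have hfinB : Finite B := Module.finite_of_finite k
  have hcardA : Nat.card A = q ^ m := Module.natCard_eq_pow_finrank
  have hcardB : Nat.card B = q ^ r := Module.natCard_eq_pow_finrank
  set N := q ^ L with hN
  have hNp : N = p ^ ((a : ℕ) * L) := by rw [hN, ha, pow_mul]
  -- the Frobenius
  let φ : F →+* F := iterateFrobenius F p ((a : ℕ) * L)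
  have hφ : ∀ x, φ x = x ^ N := fun x => by rw [hNp]; exact iterateFrobenius_def _ _ _
  have hA : ∀ x : A, (algebraMap A F x) ^ N = algebraMap A F x := by
    intro x
    have := Fintype.ofFinite A
    obtain ⟨j, hj⟩ : m ∣ L := Nat.dvd_lcm_left m r
    have h1 : x ^ (Fintype.card A) ^ j = x := FiniteField.pow_card_pow j x
    rw [← Nat.card_eq_fintype_card, hcardA, ← pow_mul, ← hj] at h1
    rw [← map_pow, h1]
  have hB : ∀ x : B, (algebraMap B F x) ^ N = algebraMap B F x := by
    intro x
    have := Fintype.ofFinite B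
    obtain ⟨j, hj⟩ : r ∣ L := Nat.dvd_lcm_right m r
    have h1 : x ^ (Fintype.card B) ^ j = x := FiniteField.pow_card_pow j x
    rw [← Nat.card_eq_fintype_card, hcardB, ← pow_mul, ← hj] at h1
    rw [← map_pow, h1]
  have hall : ∀ ξ : F, ξ ^ N = ξ := by
    intro ξ
    have hle : Subring.closure (Set.range (algebraMap A F) ∪ Set.range (algebraMap B F)) ≤
        RingHom.eqLocus φ (RingHom.id F) := by
      rw [Subring.closure_le]
      rintro _ (⟨x, rfl⟩ | ⟨x, rfl⟩)
      · change φ _ = _
        rw [hφ, hA]; rfl
      · change φ _ = _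
        rw [hφ, hB]; rfl
    have := hle (hgen ξ)
    change φ ξ = ξ at this
    rwa [hφ] at this
  have hN1 : 1 < N := Nat.one_lt_pow hL0.ne' hq1
  have hdeg : (X ^ N - X : F[X]).natDegree = N := FiniteField.X_pow_card_sub_X_natDegree_eq F hN1
  have hne : (X ^ N - X : F[X]) ≠ 0 := FiniteField.X_pow_card_sub_X_ne_zero F hN1
  have hmem : ∀ ξ : F, ξ ∈ (X ^ N - X : F[X]).roots.toFinset := by
    intro ξ
    rw [Multiset.mem_toFinset, mem_roots hne, IsRoot.def, eval_sub, eval_pow, eval_X, hall, sub_self]
  have hfinF : Finite F := Finite.of_injective (fun ξ => (⟨ξ, hmem ξ⟩ : (X ^ N - X : F[X]).roots.toFinset))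
    (fun x y h => by simpa using h)
  have hcardF : Nat.card F ≤ N := by
    have h1 : Nat.card F ≤ Nat.card (X ^ N - X : F[X]).roots.toFinset :=
      Nat.card_le_card_of_injective (fun ξ => (⟨ξ, hmem ξ⟩ : (X ^ N - X : F[X]).roots.toFinset))
        (fun x y h => by simpa using h)
    rw [Nat.card_eq_fintype_card (α := (X ^ N - X : F[X]).roots.toFinset), Fintype.card_coe] at h1
    calc Nat.card F ≤ _ := h1
      _ ≤ Multiset.card (X ^ N - X : F[X]).roots := Multiset.toFinset_card_le _
      _ ≤ (X ^ N - X : F[X]).natDegree := card_roots' _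
      _ = N := hdeg
  have hfinkF : Module.Finite k F := Module.Finite.of_finite
  have hcardF2 : Nat.card F = q ^ Module.finrank k F := Module.natCard_eq_pow_finrank
  have hn0 : 0 < Module.finrank k F := Module.finrank_pos
  have hle : Module.finrank k F ≤ L := by
    rw [hcardF2, hN] at hcardF
    exact (Nat.pow_le_pow_iff_right hq1).mp hcardF
  have hmn : m ∣ Module.finrank k F := ⟨_, (Module.finrank_mul_finrank k A F).symm⟩
  have hrn : r ∣ Module.finrank k F := ⟨_, (Module.finrank_mul_finrank k B F).symm⟩
  have hLn : L ∣ Module.finrank k F := Nat.lcm_dvd hmn hrn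
  exact le_antisymm hle (Nat.le_of_dvd hn0 hLn)


end FiniteField

section Residue

variable {k k' K K' : Type*} [Field k] [Field k'] [Field K] [Field K']
  [Algebra k k'] [Algebra k K] [Algebra K K'] [Algebra k' K'] [Algebra k K']
  [IsScalarTower k k' K'] [IsScalarTower k K K']
  [FiniteDimensional k k'] [Algebra.IsSeparable k k']

omit [Algebra.IsSeparable k k'] in
theorem hkQ_all (Q : Place k K') (c : k') : Q.1 (algebraMap k' K' c) ≤ 1 :=
  val_le_one_of_isAlgebraic Q ((Algebra.IsAlgebraic.isAlgebraic c).algebraMap)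

/-- over a finite constant field, the degree of a place of `K' = k'K` over `P` is
`lcm (deg P) [k':k]` -/
theorem deg_over_eq_lcm [Finite k] (h : Function.Bijective (pm k k' K K')) (hK : IsFFw k K)
    {P : Place k K} {Q : Place k K'} (hQ : IsOver Q P) :
    Q.deg = Nat.lcm P.deg (Module.finrank k k') := by
  have hfin := finite_of_bij h
  have hkQ : ∀ (Q : Place k K') (c : k'), Q.1 (algebraMap k' K' c) ≤ 1 := hkQ_all
  have hns : NS k' K' P := ns_of_separable h hK P P.2.1 hkQ
  have hgen := residue_mem_closure hK hns hQ hkQ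
  have hK' : IsFFw k K' := isFFw_of_finite K' hK
  have hdegQ : 0 < Q.deg := deg_pos_w hK' Q
  have hdegP : 0 < P.deg := deg_pos_w hK P
  have hfinP : @Module.Finite k (IsLocalRing.ResidueField P.O) _ _ (Place.algRes P).toModule :=
    Module.finite_of_finrank_pos hdegP
  have hkQ0 : ∀ c : k, Q.1 (algebraMap k K' c) ≤ 1 := Q.2.1
  exact @finrank_eq_lcm_of_closure k (IsLocalRing.ResidueField P.O) k' (IsLocalRing.ResidueField Q.O)
    _ _ _ _ _ (resConstAlg P P.2.1) _ (resConstAlg Q hkQ0) (resAlg hQ) (resConstAlg Q (hkQ Q))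
    (resTower_P hQ P.2.1 hkQ0) (resTower_k' Q hkQ0 (hkQ Q)) hfinP _ hgen

/-- places are unramified in a separable constant field extension -/
theorem ramIdx_eq_one (h : Function.Bijective (pm k k' K K')) (hK : IsFFw k K)
    {P : Place k K} {Q : Place k K'} (hQ : IsOver Q P) : ramIdx Q P = 1 := by
  obtain ⟨e, he⟩ := hQ
  rw [ramIdx_eq he]
  exact unramified_of_separable h hK he P.2.1 hkQ_all

/-- over a finite constant field, the number of places of `K' = k'K` over `P` is
`gcd (deg P) [k':k]` -/
theorem card_over [Finite k] (h : Function.Bijective (pm k k' K K')) (hK : IsFFw k K)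
    (P : Place k K) :
    {Q : Place k K' | IsOver Q P}.Finite ∧
      Nat.card {Q : Place k K' // IsOver Q P} = Nat.gcd P.deg (Module.finrank k k') := by
  classical
  have hfin := finite_of_bij h
  obtain ⟨hfinS, hsum⟩ := sum_ramIdx_mul_deg_w (K' := K') hK P
  refine ⟨hfinS, ?_⟩
  have h1 := hsum hfinS.toFinset (fun Q' => by rw [Set.Finite.mem_toFinset]; rfl)
  have h2 : ∀ Q ∈ hfinS.toFinset, ramIdx Q P * Q.deg = Nat.lcm P.deg (Module.finrank k k') := by
    intro Q hQ
    have hQ' : IsOver Q P := (Set.Finite.mem_toFinset hfinS).mp hQ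
    rw [ramIdx_eq_one h hK hQ', one_mul, deg_over_eq_lcm h hK hQ']
  rw [Finset.sum_congr rfl h2, Finset.sum_const, smul_eq_mul, finrank_of_bij h] at h1
  have h3 : Nat.card {Q : Place k K' // IsOver Q P} = hfinS.toFinset.card := by
    have := Set.ncard_eq_toFinset_card _ hfinS
    rw [← this, ← Nat.card_coe_set_eq]
    rfl
  rw [h3]
  have hdegP : 0 < P.deg := deg_pos_w hK P
  have hr : 0 < Module.finrank k k' := Module.finrank_pos
  have h4 : 0 < Nat.lcm P.deg (Module.finrank k k') := Nat.lcm_pos hdegP hr
  have h5 := Nat.gcd_mul_lcm P.deg (Module.finrank k k')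
  apply Nat.eq_of_mul_eq_mul_right h4
  rw [h1, h5, mul_comm]

/-- the degree over `k'` of a place of `K' = k'K` over `P` -/
theorem deg_upC_mul [Finite k] (h : Function.Bijective (pm k k' K K')) (hK : IsFFw k K)
    {P : Place k K} {Q : Place k K'} (hQ : IsOver Q P) :
    Module.finrank k k' * (upC (k' := k') Q).deg = Nat.lcm P.deg (Module.finrank k k') := by
  rw [← deg_over_eq_lcm h hK hQ, ← deg_downC, downC_upC]

omit [Algebra.IsSeparable k k'] in
/-- the place of `K` below a place of `K'/k'` -/
theorem exists_belowC (h : Function.Bijective (pm k k' K K')) (Q' : Place k' K') :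
    ∃ P : Place k K, IsOver (downC (k := k) Q') P := by
  have hfin := finite_of_bij h
  obtain ⟨P, e, he⟩ := exists_below' (K := K) (downC (k := k) Q')
  exact ⟨P, e, he⟩

end Residue

end Groth.Agent.Helper9.Zeta
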