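import Mathlib
import Groth.Prelude.Def_W4bk4goldsch45
import Groth.Agent.Lib.Helper9.Zeta.CE2

/-! Constant field extensions, part 3: the counting argument for F.K. Schmidt's theorem. -/

namespace Groth.Agent.Helper9.Zeta

open FunFld Groth.Agent.Lib.Helper4.FF Groth.Agent.Helper9.FFExt WithZero Polynomial TensorProduct

section Split

variable {k k' K K' : Type*} [Field k] [Field k'] [Field K] [Field K']
  [Algebra k k'] [Algebra k K] [Algebra K K'] [Algebra k' K'] [Algebra k K']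
  [IsScalarTower k k' K'] [IsScalarTower k K K']
  [FiniteDimensional k k'] [Algebra.IsSeparable k k'] [Finite k]

/-- if `[k':k] ≥ 2` divides `deg P` there are two places of `K'/k'` over `P`, of degree
`deg P / [k':k]` -/
theorem exists_two_over (h : Function.Bijective (pm k k' K K')) (hK : IsFFw k K)
    (hr : 2 ≤ Module.finrank k k') (P : Place k K) (hdiv : Module.finrank k k' ∣ P.deg) :
    ∃ Q₁ Q₂ : Place k' K', Q₁ ≠ Q₂ ∧ IsOver (downC (k := k) Q₁) P ∧ IsOver (downC (k := k) Q₂) P ∧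
      Module.finrank k k' * Q₁.deg = P.deg ∧ Module.finrank k k' * Q₂.deg = P.deg := by
  obtain ⟨hfinS, hcard⟩ := card_over h hK P
  rw [Nat.gcd_eq_right hdiv] at hcard
  have hfin : Finite {Q : Place k K' // IsOver Q P} := hfinS.to_subtype
  have hnt : Nontrivial {Q : Place k K' // IsOver Q P} := by
    rw [← Finite.one_lt_card_iff_nontrivial, hcard]
    omega
  obtain ⟨⟨Q₁, h₁⟩, ⟨Q₂, h₂⟩, hne⟩ := exists_pair_ne {Q : Place k K' // IsOver Q P}
  refine ⟨upC Q₁, upC Q₂, ?_, ?_, ?_, ?_, ?_⟩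
  · intro heq
    apply hne
    apply Subtype.ext
    change Q₁ = Q₂
    rw [← downC_upC (k' := k') Q₁, ← downC_upC (k' := k') Q₂, heq]
  · rw [downC_upC]; exact h₁
  · rw [downC_upC]; exact h₂
  · rw [deg_upC_mul h hK h₁, Nat.lcm_eq_left hdiv]
  · rw [deg_upC_mul h hK h₂, Nat.lcm_eq_left hdiv]

end Split

section Psi

variable {k k' K K' : Type*} [Field k] [Field k'] [Field K] [Field K'] [Algebra k K]
  [Algebra k' K']

/-- the divisor `∑ D₁(P) Q₁(P) + D₂(P) Q₂(P)` -/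
noncomputable def Psi (Q₁ Q₂ : Place k K → Place k' K') (D₁ D₂ : Divisor k K) : Divisor k' K' :=
  Finsupp.mapDomain Q₁ D₁ + Finsupp.mapDomain Q₂ D₂

variable {r : ℕ} {Q₁ Q₂ : Place k K → Place k' K'}

theorem Psi_apply₁ (hinj₁ : Function.Injective Q₁) (hdisj : ∀ P P', Q₁ P ≠ Q₂ P')
    (D₁ D₂ : Divisor k K) (P : Place k K) : Psi Q₁ Q₂ D₁ D₂ (Q₁ P) = D₁ P := by
  unfold Psi
  rw [Finsupp.add_apply, Finsupp.mapDomain_apply hinj₁, Finsupp.mapDomain_of_notMem_range, add_zero]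
  rintro ⟨P', hP'⟩
  exact hdisj P P' hP'.symm

theorem Psi_apply₂ (hinj₂ : Function.Injective Q₂) (hdisj : ∀ P P', Q₁ P ≠ Q₂ P')
    (D₁ D₂ : Divisor k K) (P : Place k K) : Psi Q₁ Q₂ D₁ D₂ (Q₂ P) = D₂ P := by
  unfold Psi
  rw [Finsupp.add_apply, Finsupp.mapDomain_apply hinj₂, Finsupp.mapDomain_of_notMem_range, zero_add]
  rintro ⟨P', hP'⟩
  exact hdisj P' P hP'

theorem Psi_nonneg (hinj₁ : Function.Injective Q₁) (hinj₂ : Function.Injective Q₂)
    (hdisj : ∀ P P', Q₁ P ≠ Q₂ P') {D₁ D₂ : Divisor k K} (h₁ : 0 ≤ D₁) (h₂ : 0 ≤ D₂) :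
    0 ≤ Psi Q₁ Q₂ D₁ D₂ := by
  intro Q
  rw [Finsupp.zero_apply]
  by_cases hQ1 : Q ∈ Set.range Q₁
  · obtain ⟨P, rfl⟩ := hQ1
    rw [Psi_apply₁ hinj₁ hdisj]
    exact h₁ P
  by_cases hQ2 : Q ∈ Set.range Q₂
  · obtain ⟨P, rfl⟩ := hQ2
    rw [Psi_apply₂ hinj₂ hdisj]
    exact h₂ P
  unfold Psi
  rw [Finsupp.add_apply, Finsupp.mapDomain_of_notMem_range _ _ hQ1,
    Finsupp.mapDomain_of_notMem_range _ _ hQ2, add_zero]

theorem deg_mapDomain (Q₁ : Place k K → Place k' K') (hdeg₁ : ∀ P, r * (Q₁ P).deg = P.deg)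
    (D : Divisor k K) : (r : ℤ) * Divisor.deg (Finsupp.mapDomain Q₁ D : Divisor k' K') = D.deg := by
  unfold Divisor.deg
  rw [Finsupp.sum_mapDomain_index (by intro; simp) (by intro _ _ _; ring), Finsupp.mul_sum]
  refine Finsupp.sum_congr fun P _ => ?_
  rw [← hdeg₁ P]
  push_cast
  ring

theorem Psi_deg (hdeg₁ : ∀ P, r * (Q₁ P).deg = P.deg) (hdeg₂ : ∀ P, r * (Q₂ P).deg = P.deg)
    (D₁ D₂ : Divisor k K) : (r : ℤ) * (Psi Q₁ Q₂ D₁ D₂).deg = D₁.deg + D₂.deg := by
  unfold Psi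
  rw [Divisor.deg_add, mul_add, deg_mapDomain Q₁ hdeg₁, deg_mapDomain Q₂ hdeg₂]

theorem Psi_inj (hinj₁ : Function.Injective Q₁) (hinj₂ : Function.Injective Q₂)
    (hdisj : ∀ P P', Q₁ P ≠ Q₂ P') {D₁ D₂ D₁' D₂' : Divisor k K}
    (h : Psi Q₁ Q₂ D₁ D₂ = Psi Q₁ Q₂ D₁' D₂') : D₁ = D₁' ∧ D₂ = D₂' := by
  constructor
  · ext P
    rw [← Psi_apply₁ hinj₁ hdisj D₁ D₂ P, h, Psi_apply₁ hinj₁ hdisj]
  · ext P
    rw [← Psi_apply₂ hinj₂ hdisj D₁ D₂ P, h, Psi_apply₂ hinj₂ hdisj]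

/-- counting: pairs of effective divisors downstairs inject into effective divisors upstairs -/
theorem sum_effDivCount_le (hr : 0 < r) (hinj₁ : Function.Injective Q₁)
    (hinj₂ : Function.Injective Q₂) (hdisj : ∀ P P', Q₁ P ≠ Q₂ P')
    (hdeg₁ : ∀ P, r * (Q₁ P).deg = P.deg) (hdeg₂ : ∀ P, r * (Q₂ P).deg = P.deg)
    (n : ℕ) (hfin' : {D : Divisor k' K' | 0 ≤ D ∧ D.deg = n}.Finite)
    (hfin : ∀ m : ℕ, {D : Divisor k K | 0 ≤ D ∧ D.deg = m}.Finite) (a b : ℕ) (hab : a + b ≤ n) :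
    ∑ i : Fin (n - a - b + 1), effDivCount k K (r * (a + i)) * effDivCount k K (r * (n - a - i)) ≤
      effDivCount k' K' n := by
  classical
  have hF' : Finite {D : Divisor k' K' // 0 ≤ D ∧ D.deg = n} := hfin'.to_subtype
  have hF : ∀ m : ℕ, Finite {D : Divisor k K // 0 ≤ D ∧ D.deg = m} := fun m => (hfin m).to_subtype
  let β : Fin (n - a - b + 1) → Type _ := fun i =>
    {D : Divisor k K // 0 ≤ D ∧ D.deg = ((r * (a + i) : ℕ) : ℤ)} ×
      {D : Divisor k K // 0 ≤ D ∧ D.deg = ((r * (n - a - i) : ℕ) : ℤ)}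
  have hcard : Nat.card (Σ i, β i) =
      ∑ i : Fin (n - a - b + 1), effDivCount k K (r * (a + i)) * effDivCount k K (r * (n - a - i)) := by
    rw [Nat.card_sigma]
    refine Finset.sum_congr rfl fun i _ => ?_
    rw [Nat.card_prod]
    rfl
  rw [← hcard]
  let f : (Σ i, β i) → {D : Divisor k' K' // 0 ≤ D ∧ D.deg = n} := fun x =>
    ⟨Psi Q₁ Q₂ x.2.1.1 x.2.2.1, Psi_nonneg hinj₁ hinj₂ hdisj x.2.1.2.1 x.2.2.2.1, by
      have h1 := Psi_deg hdeg₁ hdeg₂ x.2.1.1 x.2.2.1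
      rw [x.2.1.2.2, x.2.2.2.2] at h1
      have hi : (x.1 : ℕ) ≤ n - a - b := Nat.lt_succ_iff.mp x.1.2
      have h2 : ((r * (a + x.1) : ℕ) : ℤ) + ((r * (n - a - x.1) : ℕ) : ℤ) = (r : ℤ) * n := by
        have : a + (x.1 : ℕ) + (n - a - x.1) = n := by omega
        rw [← Nat.cast_add, ← Nat.mul_add, this]
        push_cast; ring
      rw [h2] at h1
      have hr' : (r : ℤ) ≠ 0 := by exact_mod_cast hr.ne'
      exact mul_left_cancel₀ hr' h1⟩
  apply Nat.card_le_card_of_injective f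
  rintro ⟨i, D₁, D₂⟩ ⟨i', D₁', D₂'⟩ hff
  have h1 : Psi Q₁ Q₂ D₁.1 D₂.1 = Psi Q₁ Q₂ D₁'.1 D₂'.1 := congrArg Subtype.val hff
  obtain ⟨e1, e2⟩ := Psi_inj hinj₁ hinj₂ hdisj h1
  have hii : i = i' := by
    have h3 := D₁.2.2
    rw [e1, D₁'.2.2] at h3
    have h4 : r * (a + i') = r * (a + i) := by exact_mod_cast h3
    have h5 := Nat.eq_of_mul_eq_mul_left hr h4
    apply Fin.ext
    omega
  subst hii
  have e1' : D₁ = D₁' := Subtype.ext e1
  have e2' : D₂ = D₂' := Subtype.ext e2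
  rw [e1', e2']

end Psi

section Bounds

variable {k K : Type*} [Field k] [Field K] [Algebra k K] [Finite k]

theorem card_Cl0_pos (hK : IsFunctionField k K) : 0 < Nat.card (Cl0 k K) := by
  have := finite_Cl0 (k := k) hK
  exact Nat.card_pos

/-- upper bound for the number of effective divisors of degree `n ≥ 2g - 1` -/
theorem effDivCount_le (hK : IsFunctionField k K) (n : ℕ) (hn : 2 * genus k K ≤ n + 1) :
    effDivCount k K n ≤ Nat.card (Cl0 k K) * Nat.card k ^ (n + 1) := by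
  by_cases hex : ∃ D₀ : Divisor k K, D₀.deg = n
  · obtain ⟨D₀, hD₀⟩ := hex
    have h1 := card_effDiv hK n hn D₀ hD₀
    have hq : 2 ≤ Nat.card k := Finite.one_lt_card
    calc effDivCount k K n ≤ (Nat.card k - 1) * effDivCount k K n :=
          Nat.le_mul_of_pos_left _ (by omega)
      _ = Nat.card (Cl0 k K) * (Nat.card k ^ (n + 1 - genus k K) - 1) := h1
      _ ≤ Nat.card (Cl0 k K) * Nat.card k ^ (n + 1) := by
          apply Nat.mul_le_mul_left
          calc Nat.card k ^ (n + 1 - genus k K) - 1 ≤ Nat.card k ^ (n + 1 - genus k K) :=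
                Nat.sub_le _ _
            _ ≤ Nat.card k ^ (n + 1) := Nat.pow_le_pow_right (by omega) (Nat.sub_le _ _)
  · have hempty : IsEmpty {D : Divisor k K // 0 ≤ D ∧ D.deg = n} :=
      ⟨fun D => hex ⟨D.1, D.2.2⟩⟩
    unfold effDivCount
    rw [Nat.card_of_isEmpty]
    exact Nat.zero_le _

/-- lower bound for the number of effective divisors of degree `d ≥ 2g - 1` -/
theorem le_effDivCount (hK : IsFunctionField k K) (d : ℕ) (hd : 2 * genus k K ≤ d + 1)
    (D₀ : Divisor k K) (hD₀ : D₀.deg = d) :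
    Nat.card k ^ d ≤ effDivCount k K d * Nat.card k ^ genus k K := by
  have h1 := card_effDiv hK d hd D₀ hD₀
  have hq : 2 ≤ Nat.card k := Finite.one_lt_card
  have hh := card_Cl0_pos (k := k) hK
  obtain ⟨Q, hQ⟩ : ∃ Q, Nat.card k = Q + 1 := ⟨Nat.card k - 1, by omega⟩
  obtain ⟨e', he'⟩ : ∃ e', d + 1 - genus k K = e' + 1 := ⟨d - genus k K, by omega⟩
  have hde : d = e' + genus k K := by omega
  rw [he', hQ, Nat.add_sub_cancel] at h1
  rw [hQ]
  have hQ0 : 0 < Q := by omega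
  apply Nat.le_of_mul_le_mul_left _ hQ0
  have h2 : Q * (Q + 1) ^ e' ≤ (Q + 1) ^ (e' + 1) - 1 := by
    have : (Q + 1) ^ (e' + 1) = Q * (Q + 1) ^ e' + (Q + 1) ^ e' := by ring
    have h3 : 1 ≤ (Q + 1) ^ e' := Nat.one_le_pow _ _ (by omega)
    omega
  calc Q * (Q + 1) ^ d = (Q * (Q + 1) ^ e') * (Q + 1) ^ genus k K := by rw [hde, pow_add]; ring
    _ ≤ ((Q + 1) ^ (e' + 1) - 1) * (Q + 1) ^ genus k K := Nat.mul_le_mul_right _ h2
    _ ≤ (Nat.card (Cl0 k K) * ((Q + 1) ^ (e' + 1) - 1)) * (Q + 1) ^ genus k K :=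
        Nat.mul_le_mul_right _ (Nat.le_mul_of_pos_left _ hh)
    _ = Q * (effDivCount k K d * (Q + 1) ^ genus k K) := by rw [← h1]; ring

end Bounds

section FKS

variable {k k' K K' : Type*} [Field k] [Field k'] [Field K] [Field K']
  [Algebra k k'] [Algebra k K] [Algebra K K'] [Algebra k' K'] [Algebra k K']
  [IsScalarTower k k' K'] [IsScalarTower k K K']
  [FiniteDimensional k k'] [Algebra.IsSeparable k k'] [Finite k]

/-- the contradiction at the heart of F.K. Schmidt's theorem -/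
theorem fks_aux (h : Function.Bijective (pm k k' K K')) (hK : IsFunctionField k K)
    (hr : 2 ≤ Module.finrank k k') (hdiv : ∀ P : Place k K, Module.finrank k k' ∣ P.deg)
    (D₀ : Divisor k K) (hD₀ : D₀.deg = Module.finrank k k') : False := by
  classical
  set r := Module.finrank k k' with hrdef
  have hr0 : 0 < r := by omega
  have hKw : IsFFw k K := hK.1
  have hfin := finite_of_bij h
  choose Q₁ Q₂ hne ho₁ ho₂ hd₁ hd₂ using fun P => exists_two_over h hKw hr P (hdiv P)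
  have hinj₁ : Function.Injective Q₁ := fun P P' hPP' => by
    have h1 := ho₁ P
    rw [hPP'] at h1
    exact isOver_unique h1 (ho₁ P')
  have hinj₂ : Function.Injective Q₂ := fun P P' hPP' => by
    have h1 := ho₂ P
    rw [hPP'] at h1
    exact isOver_unique h1 (ho₂ P')
  have hdisj : ∀ P P', Q₁ P ≠ Q₂ P' := fun P P' hPP' => by
    have h1 := ho₁ P
    rw [hPP'] at h1
    have h2 : P = P' := isOver_unique h1 (ho₂ P')
    subst h2
    exact hne P hPP'
  have hK' : IsFunctionField k' K' := isFunctionField_constExt h hK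
  have hfink' : Finite k' := Module.finite_of_finite k
  have hcardk' : Nat.card k' = Nat.card k ^ r := Module.natCard_eq_pow_finrank
  set q := Nat.card k with hq
  have hq2 : 2 ≤ q := Finite.one_lt_card
  set g := genus k K with hg
  set g' := genus k' K' with hg'
  set h' := Nat.card (Cl0 k' K') with hh'
  set N := h' * q ^ (2 * g + r) + 2 * g' with hN
  set n := 4 * g + N with hn
  have hsum := sum_effDivCount_le hr0 hinj₁ hinj₂ hdisj hd₁ hd₂ n (finite_effDiv hK' n)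
    (fun m => finite_effDiv hK m) (2 * g) (2 * g) (by omega)
  have hupper := effDivCount_le hK' n (by omega)
  rw [hcardk', ← hh', ← pow_mul] at hupper
  -- lower bound for each term
  have hterm : ∀ i : Fin (n - 2 * g - 2 * g + 1),
      q ^ (r * n) ≤ effDivCount k K (r * (2 * g + i)) * effDivCount k K (r * (n - 2 * g - i)) *
        q ^ (2 * g) := by
    intro i
    have hi : (i : ℕ) ≤ n - 2 * g - 2 * g := Nat.lt_succ_iff.mp i.2
    have hdeg : ∀ m : ℕ, ((m • D₀ : Divisor k K)).deg = ((r * m : ℕ) : ℤ) := by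
      intro m
      rw [Divisor.deg_nsmul, hD₀]
      push_cast; ring
    have hge : ∀ m : ℕ, 2 * g ≤ m → 2 * g ≤ r * m + 1 := by
      intro m hm
      have : m ≤ r * m := Nat.le_mul_of_pos_left _ hr0
      omega
    have h1 := le_effDivCount hK (r * (2 * g + i)) (hge _ (by omega)) _ (hdeg _)
    have h2 := le_effDivCount hK (r * (n - 2 * g - i)) (hge _ (by omega)) _ (hdeg _)
    have h3 : r * n = r * (2 * g + i) + r * (n - 2 * g - i) := by
      rw [← Nat.mul_add]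
      congr 1
      omega
    calc q ^ (r * n) = q ^ (r * (2 * g + i)) * q ^ (r * (n - 2 * g - i)) := by rw [h3, pow_add]
      _ ≤ (effDivCount k K (r * (2 * g + i)) * q ^ g) *
          (effDivCount k K (r * (n - 2 * g - i)) * q ^ g) := Nat.mul_le_mul h1 h2
      _ = _ := by
          have : q ^ (2 * g) = q ^ g * q ^ g := by rw [two_mul, pow_add]
          rw [this]; ring
  have hlow : (N + 1) * q ^ (r * n) ≤ effDivCount k' K' n * q ^ (2 * g) := by
    have h4 : n - 2 * g - 2 * g = N := by omega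
    calc (N + 1) * q ^ (r * n) = ∑ _i : Fin (n - 2 * g - 2 * g + 1), q ^ (r * n) := by
          rw [Finset.sum_const, Finset.card_univ, Fintype.card_fin, smul_eq_mul, h4]
      _ ≤ ∑ i : Fin (n - 2 * g - 2 * g + 1), effDivCount k K (r * (2 * g + i)) *
            effDivCount k K (r * (n - 2 * g - i)) * q ^ (2 * g) :=
          Finset.sum_le_sum fun i _ => hterm i
      _ = (∑ i : Fin (n - 2 * g - 2 * g + 1), effDivCount k K (r * (2 * g + i)) *
            effDivCount k K (r * (n - 2 * g - i))) * q ^ (2 * g) := by rw [Finset.sum_mul]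
      _ ≤ effDivCount k' K' n * q ^ (2 * g) := Nat.mul_le_mul_right _ hsum
  have hfinal : (N + 1) * q ^ (r * n) ≤ (h' * q ^ (2 * g + r)) * q ^ (r * n) := by
    calc (N + 1) * q ^ (r * n) ≤ effDivCount k' K' n * q ^ (2 * g) := hlow
      _ ≤ (h' * q ^ (r * (n + 1))) * q ^ (2 * g) := Nat.mul_le_mul_right _ hupper
      _ = (h' * q ^ (2 * g + r)) * q ^ (r * n) := by
          rw [Nat.mul_add, mul_one, pow_add, pow_add]; ring
  have hpos : 0 < q ^ (r * n) := Nat.pow_pos (by omega)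
  have := Nat.le_of_mul_le_mul_right hfinal hpos
  omega

end FKS

end Groth.Agent.Helper9.Zeta
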