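import Mathlib
import Groth.Prelude.Def_W4bk4goldsch45
import Groth.Agent.Lib.Helper9.Zeta.FKS

/-! Zeta function: class sums, functional equation. -/

namespace Groth.Agent.Helper9.Zeta

open FunFld Groth.Agent.Lib.Helper4.FF Groth.Agent.Helper9.FFExt

section ClassAPI

variable {k K : Type*} [Field k] [Field K] [Algebra k K]

/-- the class of a divisor of degree zero -/
noncomputable def cl (D : Divisor k K) (h : D.deg = 0) : Cl0 k K :=
  QuotientAddGroup.mk ⟨D, (mem_ker_degHom D).mpr h⟩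

theorem cl_eq_cl_iff {D D' : Divisor k K} (h : D.deg = 0) (h' : D'.deg = 0) :
    cl D h = cl D' h' ↔ D - D' ∈ prinDivs k K := by
  unfold cl
  rw [QuotientAddGroup.eq, AddSubgroup.mem_addSubgroupOf]
  have e : ((-(⟨D, (mem_ker_degHom D).mpr h⟩ : (FunFld.degHom k K).ker) +
      ⟨D', (mem_ker_degHom D').mpr h'⟩ : (FunFld.degHom k K).ker) : Divisor k K) = -(D - D') := by
    push_cast
    abel
  rw [e, neg_mem_iff]

theorem cl_add {D D' : Divisor k K} (h : D.deg = 0) (h' : D'.deg = 0) :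
    cl (D + D') (by rw [Divisor.deg_add, h, h', add_zero]) = cl D h + cl D' h' := rfl

theorem cl_sub {D D' : Divisor k K} (h : D.deg = 0) (h' : D'.deg = 0) :
    cl (D - D') (by rw [Divisor.deg_sub, h, h', sub_zero]) = cl D h - cl D' h' := rfl

/-- a representative of a class -/
noncomputable def rep (c : Cl0 k K) : Divisor k K := (Quotient.out c : (FunFld.degHom k K).ker).1

theorem rep_deg (c : Cl0 k K) : (rep c).deg = 0 :=
  (mem_ker_degHom _).mp (Quotient.out c : (FunFld.degHom k K).ker).2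

theorem cl_rep (c : Cl0 k K) : cl (rep c) (rep_deg c) = c := by
  unfold cl rep
  exact QuotientAddGroup.out_eq' c

theorem exists_cl (c : Cl0 k K) : ∃ (D : Divisor k K) (h : D.deg = 0), cl D h = c :=
  ⟨rep c, rep_deg c, cl_rep c⟩

/-- `ℓ` is invariant under linear equivalence -/
theorem ell_eq_of_sub_mem_prinDivs (hK : IsFunctionField k K) {D D' : Divisor k K}
    (h : D - D' ∈ prinDivs k K) : ell D = ell D' := by
  obtain ⟨x, hx0, hx⟩ := (mem_prinDivs_iff hK _).mp h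
  have : D = D' + div k x := by rw [← hx]; abel
  rw [this, ell_add_div hK _ hx0]

end ClassAPI

section Count

variable {k K : Type*} [Field k] [Field K] [Algebra k K] [Finite k]

/-- the number of effective divisors of degree `n` as a sum over classes -/
theorem card_effDiv_sum (hK : IsFunctionField k K) [Fintype (Cl0 k K)] (n : ℕ)
    (D₀ : Divisor k K) (hD₀ : D₀.deg = n) :
    (Nat.card k - 1) * effDivCount k K n =
      ∑ c : Cl0 k K, (Nat.card k ^ ell (D₀ + rep c) - 1) := by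
  classical
  have hfinA : Finite {D : Divisor k K // 0 ≤ D ∧ D.deg = n} := (finite_effDiv hK n).to_subtype
  let π : {D : Divisor k K // 0 ≤ D ∧ D.deg = n} → Cl0 k K :=
    fun D => clsSub D₀ D.1 (by rw [D.2.2, hD₀])
  have hcard1 : effDivCount k K n = ∑ q : Cl0 k K, Nat.card {D // π D = q} := by
    unfold effDivCount
    rw [← Nat.card_sigma]
    exact Nat.card_congr (Equiv.sigmaFiberEquiv π).symm
  have hfib : ∀ q : Cl0 k K, (Nat.card k - 1) * Nat.card {D // π D = q} =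
      Nat.card k ^ ell (D₀ + rep q) - 1 := by
    intro q
    set B : (FunFld.degHom k K).ker := Quotient.out q with hB
    have hBq : (QuotientAddGroup.mk B : Cl0 k K) = q := QuotientAddGroup.out_eq' q
    have hBdeg : B.1.deg = 0 := (mem_ker_degHom _).mp B.2
    have hequiv : {D // π D = q} ≃ effIn (k := k) (K := K) (D₀ + B.1) :=
      { toFun := fun D => ⟨D.1.1, D.1.2.1, by
          have h1 : π D.1 = QuotientAddGroup.mk B := D.2.trans hBq.symm
          exact (clsSub_eq_iff D₀ D.1.1 _ B).mp h1⟩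
        invFun := fun E => ⟨⟨E.1, E.2.1, by
            have h1 := deg_eq_zero_of_mem_prinDivs hK E.2.2
            rw [Divisor.deg_sub, Divisor.deg_add, hBdeg, hD₀] at h1
            linarith⟩, by
          exact ((clsSub_eq_iff D₀ E.1 _ B).mpr E.2.2).trans hBq⟩
        left_inv := fun D => rfl
        right_inv := fun E => rfl }
    rw [Nat.card_congr hequiv, card_effIn hK]
    rfl
  rw [hcard1, Finset.mul_sum]
  exact Finset.sum_congr rfl (fun q _ => hfib q)

end Count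

section SFun

variable {k K : Type*} [Field k] [Field K] [Algebra k K] [Fintype (Cl0 k K)]

omit [Fintype (Cl0 k K)] in
theorem deg_zsmul (m : ℤ) (D : Divisor k K) : (m • D).deg = m * D.deg := by
  rw [← degHom_apply, map_zsmul, degHom_apply, smul_eq_mul]

/-- the class sum `∑_c q^{ℓ(n D₁ + c)}` -/
noncomputable def Sfun (D₁ : Divisor k K) (n : ℤ) : ℤ :=
  ∑ c : Cl0 k K, (Nat.card k : ℤ) ^ ell (n • D₁ + rep c)

omit [Fintype (Cl0 k K)] in
theorem deg_smul_add_rep {D₁ : Divisor k K} (hD₁ : D₁.deg = 1) (n : ℤ) (c : Cl0 k K) :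
    (n • D₁ + rep c).deg = n := by
  rw [Divisor.deg_add, deg_zsmul, hD₁, rep_deg, mul_one, add_zero]

theorem Sfun_neg (hK : IsFunctionField k K) {D₁ : Divisor k K} (hD₁ : D₁.deg = 1) {n : ℤ}
    (hn : n < 0) : Sfun D₁ n = Fintype.card (Cl0 k K) := by
  unfold Sfun
  have : ∀ c : Cl0 k K, (Nat.card k : ℤ) ^ ell (n • D₁ + rep c) = 1 := by
    intro c
    have h1 : L (n • D₁ + rep c) = ⊥ :=
      L_eq_bot_of_deg_neg hK (by rw [deg_smul_add_rep hD₁]; exact hn)
    have h2 : ell (n • D₁ + rep c) = 0 := by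
      rw [ell, h1]; exact finrank_bot k K
    rw [h2, pow_zero]
  rw [Finset.sum_congr rfl fun c _ => this c]
  simp

variable [Finite k]

theorem Sfun_nat (hK : IsFunctionField k K) {D₁ : Divisor k K} (hD₁ : D₁.deg = 1) (n : ℕ) :
    ((Nat.card k : ℤ) - 1) * effDivCount k K n = Sfun D₁ n - Fintype.card (Cl0 k K) := by
  have h1 := card_effDiv_sum hK n ((n : ℤ) • D₁) (by rw [deg_zsmul, hD₁, mul_one])
  have hq : 2 ≤ Nat.card k := Finite.one_lt_card
  have h2 : ((Nat.card k - 1 : ℕ) : ℤ) = (Nat.card k : ℤ) - 1 := by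
    rw [Nat.cast_sub (by omega)]; simp
  rw [← h2]
  have h3 : (((Nat.card k - 1) * effDivCount k K n : ℕ) : ℤ) =
      ((∑ c : Cl0 k K, (Nat.card k ^ ell ((n : ℤ) • D₁ + rep c) - 1) : ℕ) : ℤ) := by rw [h1]
  rw [Nat.cast_mul, Nat.cast_sum] at h3
  rw [h3]
  unfold Sfun
  have h4 : ∀ c : Cl0 k K, ((Nat.card k ^ ell ((n : ℤ) • D₁ + rep c) - 1 : ℕ) : ℤ) =
      (Nat.card k : ℤ) ^ ell ((n : ℤ) • D₁ + rep c) - 1 := by
    intro c
    rw [Nat.cast_sub (Nat.one_le_pow _ _ (by omega))]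
    simp
  rw [Finset.sum_congr rfl fun c _ => h4 c, Finset.sum_sub_distrib]
  simp

/-- Riemann–Roch duality for class sums -/
theorem Sfun_dual (hK : IsFunctionField k K) {D₁ : Divisor k K} (hD₁ : D₁.deg = 1) (n : ℤ) :
    (Sfun D₁ n : ℚ) = (Nat.card k : ℚ) ^ (n + 1 - genus k K) *
      (Sfun D₁ (2 * (genus k K : ℤ) - 2 - n) : ℚ) := by
  classical
  obtain ⟨W, hW⟩ := exists_canonical hK
  have hWdeg : W.deg = 2 * (genus k K : ℤ) - 2 := deg_canonical hK hW
  set g := genus k K with hg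
  have hw₀deg : (W - (2 * (g : ℤ) - 2) • D₁).deg = 0 := by
    rw [Divisor.deg_sub, deg_zsmul, hD₁, hWdeg]; ring
  set w₀ : Cl0 k K := cl _ hw₀deg with hw₀
  have hq0 : (Nat.card k : ℚ) ≠ 0 := by
    have : 0 < Nat.card k := Nat.card_pos
    positivity
  unfold Sfun
  push_cast
  rw [Finset.mul_sum]
  rw [← Equiv.sum_comp (Equiv.subLeft w₀) (fun c => (Nat.card k : ℚ) ^ (n + 1 - (g : ℤ)) *
    (Nat.card k : ℚ) ^ ell ((2 * (g : ℤ) - 2 - n) • D₁ + rep c))]
  refine Finset.sum_congr rfl fun c _ => ?_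
  rw [Equiv.subLeft_apply]
  have h1 := riemann_roch hK hW (n • D₁ + rep c)
  rw [deg_smul_add_rep hD₁] at h1
  have h2 : ell (W - (n • D₁ + rep c)) = ell ((2 * (g : ℤ) - 2 - n) • D₁ + rep (w₀ - c)) := by
    apply ell_eq_of_sub_mem_prinDivs hK
    have hd1 : (W - (n • D₁ + rep c) - (2 * (g : ℤ) - 2 - n) • D₁).deg = 0 := by
      rw [Divisor.deg_sub, Divisor.deg_sub, deg_zsmul, deg_smul_add_rep hD₁, hD₁, hWdeg]; ring
    have h3 : cl _ hd1 = cl _ (rep_deg (w₀ - c)) := by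
      rw [cl_rep]
      have e : W - (n • D₁ + rep c) - (2 * (g : ℤ) - 2 - n) • D₁ =
          (W - (2 * (g : ℤ) - 2) • D₁) - rep c := by
        rw [sub_smul, sub_smul]; abel
      have h4 : cl _ hd1 = cl ((W - (2 * (g : ℤ) - 2) • D₁) - rep c)
          (by rw [Divisor.deg_sub, hw₀deg, rep_deg, sub_zero]) := by
        congr 1
      rw [h4, cl_sub hw₀deg (rep_deg c), cl_rep]
    have h5 := (cl_eq_cl_iff hd1 (rep_deg (w₀ - c))).mp h3
    have e2 : W - (n • D₁ + rep c) - ((2 * (g : ℤ) - 2 - n) • D₁ + rep (w₀ - c)) =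
        W - (n • D₁ + rep c) - (2 * (g : ℤ) - 2 - n) • D₁ - rep (w₀ - c) := by abel
    rw [e2]
    exact h5
  rw [h2] at h1
  rw [← zpow_natCast, ← zpow_natCast, ← zpow_add₀ hq0, h1]

/-- the combination `S(n) - (q+1) S(n-1) + q S(n-2)` -/
noncomputable def Tfun (D₁ : Divisor k K) (n : ℤ) : ℤ :=
  Sfun D₁ n - ((Nat.card k : ℤ) + 1) * Sfun D₁ (n - 1) + (Nat.card k : ℤ) * Sfun D₁ (n - 2)

omit [Finite k] in
theorem Tfun_neg (hK : IsFunctionField k K) {D₁ : Divisor k K} (hD₁ : D₁.deg = 1) {n : ℤ}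
    (hn : n < 0) : Tfun D₁ n = 0 := by
  unfold Tfun
  rw [Sfun_neg hK hD₁ hn, Sfun_neg hK hD₁ (show n - 1 < 0 by omega),
    Sfun_neg hK hD₁ (show n - 2 < 0 by omega)]
  ring

/-- the functional equation -/
theorem Tfun_dual (hK : IsFunctionField k K) {D₁ : Divisor k K} (hD₁ : D₁.deg = 1) (i : ℤ) :
    (Tfun D₁ (2 * (genus k K : ℤ) - i) : ℚ) =
      (Nat.card k : ℚ) ^ ((genus k K : ℤ) - i) * (Tfun D₁ i : ℚ) := by
  set g := genus k K with hg
  have hq0 : (Nat.card k : ℚ) ≠ 0 := by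
    have : 0 < Nat.card k := Nat.card_pos
    positivity
  obtain ⟨Q, hQ⟩ : ∃ Q : ℚ, Q = (Nat.card k : ℚ) ^ ((g : ℤ) - i) := ⟨_, rfl⟩
  have h1 : (Sfun D₁ (2 * (g : ℤ) - i) : ℚ) = Q * (Nat.card k : ℚ) * (Sfun D₁ (i - 2) : ℚ) := by
    rw [Sfun_dual hK hD₁ (2 * (g : ℤ) - i)]
    have e1 : 2 * (g : ℤ) - 2 - (2 * (g : ℤ) - i) = i - 2 := by ring
    have f1 : 2 * (g : ℤ) - i + 1 - g = (g - i) + 1 := by ring
    rw [← hg, e1, f1, zpow_add₀ hq0, zpow_one, hQ]
  have h2 : (Sfun D₁ (2 * (g : ℤ) - i - 1) : ℚ) = Q * (Sfun D₁ (i - 1) : ℚ) := by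
    rw [Sfun_dual hK hD₁ (2 * (g : ℤ) - i - 1)]
    have e2 : 2 * (g : ℤ) - 2 - (2 * (g : ℤ) - i - 1) = i - 1 := by ring
    have f2 : 2 * (g : ℤ) - i - 1 + 1 - g = g - i := by ring
    rw [← hg, e2, f2, hQ]
  have h3 : (Sfun D₁ (2 * (g : ℤ) - i - 2) : ℚ) = Q / (Nat.card k : ℚ) * (Sfun D₁ i : ℚ) := by
    rw [Sfun_dual hK hD₁ (2 * (g : ℤ) - i - 2)]
    have e3 : 2 * (g : ℤ) - 2 - (2 * (g : ℤ) - i - 2) = i := by ring
    have f3 : 2 * (g : ℤ) - i - 2 + 1 - g = (g - i) - 1 := by ring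
    rw [← hg, e3, f3, zpow_sub₀ hq0, zpow_one, hQ]
  unfold Tfun
  push_cast
  rw [h1, h2, h3, ← hQ]
  field_simp
  ring

end SFun

section NumerZ

variable (k K : Type*) [Field k] [Field K] [Algebra k K]

/-- `a_m` extended by zero to negative `m` -/
noncomputable def aZ (m : ℤ) : ℤ := if 0 ≤ m then (effDivCount k K m.toNat : ℤ) else 0

theorem aZ_nat (n : ℕ) : aZ k K n = effDivCount k K n := by
  unfold aZ
  rw [if_pos (by omega)]
  simp

theorem aZ_neg {m : ℤ} (hm : m < 0) : aZ k K m = 0 := by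
  unfold aZ
  rw [if_neg (by omega)]

theorem coeff_numerZ (n : ℕ) : PowerSeries.coeff n (numerZ k K) =
    aZ k K n - ((Nat.card k : ℤ) + 1) * aZ k K ((n : ℤ) - 1) +
      (Nat.card k : ℤ) * aZ k K ((n : ℤ) - 2) := by
  have h1 : numerZ k K = zetaZ k K - PowerSeries.C ((Nat.card k : ℤ) + 1) * (PowerSeries.X ^ 1 * zetaZ k K) +
      PowerSeries.C (Nat.card k : ℤ) * (PowerSeries.X ^ 2 * zetaZ k K) := by
    unfold numerZ
    rw [map_add, map_one]
    ring
  rw [h1, map_add, map_sub, PowerSeries.coeff_C_mul, PowerSeries.coeff_C_mul,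
    PowerSeries.coeff_X_pow_mul', PowerSeries.coeff_X_pow_mul']
  unfold zetaZ
  simp only [PowerSeries.coeff_mk]
  have e1 : (if 1 ≤ n then (effDivCount k K (n - 1) : ℤ) else 0) = aZ k K ((n : ℤ) - 1) := by
    by_cases h : 1 ≤ n
    · rw [if_pos h]
      have : ((n : ℤ) - 1) = ((n - 1 : ℕ) : ℤ) := by omega
      rw [this, aZ_nat]
    · rw [if_neg h, aZ_neg]
      omega
  have e2 : (if 2 ≤ n then (effDivCount k K (n - 2) : ℤ) else 0) = aZ k K ((n : ℤ) - 2) := by
    by_cases h : 2 ≤ n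
    · rw [if_pos h]
      have : ((n : ℤ) - 2) = ((n - 2 : ℕ) : ℤ) := by omega
      rw [this, aZ_nat]
    · rw [if_neg h, aZ_neg]
      omega
  rw [e1, e2, aZ_nat]

variable {k K} [Fintype (Cl0 k K)] [Finite k]

theorem aZ_Sfun (hK : IsFunctionField k K) {D₁ : Divisor k K} (hD₁ : D₁.deg = 1) (m : ℤ) :
    ((Nat.card k : ℤ) - 1) * aZ k K m = Sfun D₁ m - Fintype.card (Cl0 k K) := by
  by_cases hm : 0 ≤ m
  · obtain ⟨n, rfl⟩ := Int.eq_ofNat_of_zero_le hm
    rw [aZ_nat, Sfun_nat hK hD₁]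
  · push Not at hm
    rw [aZ_neg k K hm, Sfun_neg hK hD₁ hm]
    ring

theorem coeff_numerZ_Tfun (hK : IsFunctionField k K) {D₁ : Divisor k K} (hD₁ : D₁.deg = 1) (n : ℕ) :
    ((Nat.card k : ℤ) - 1) * PowerSeries.coeff n (numerZ k K) = Tfun D₁ n := by
  rw [coeff_numerZ]
  unfold Tfun
  have h0 := aZ_Sfun hK hD₁ n
  have h1 := aZ_Sfun hK hD₁ ((n : ℤ) - 1)
  have h2 := aZ_Sfun hK hD₁ ((n : ℤ) - 2)
  linear_combination h0 - ((Nat.card k : ℤ) + 1) * h1 + (Nat.card k : ℤ) * h2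

end NumerZ

section Main

variable {k K : Type*} [Field k] [Field K] [Algebra k K] [Finite k]

omit [Finite k] in
theorem effDivCount_zero (hK : IsFunctionField k K) : effDivCount k K 0 = 1 := by
  unfold effDivCount
  have : Unique {D : Divisor k K // 0 ≤ D ∧ D.deg = ((0 : ℕ) : ℤ)} :=
    { default := ⟨0, le_refl _, by simp [Divisor.deg_zero]⟩
      uniq := by
        rintro ⟨D, hD0, hDd⟩
        apply Subtype.ext
        change D = 0
        ext P
        rw [Finsupp.zero_apply]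
        have h1 := coeff_mul_deg_le_deg hD0 P
        rw [hDd] at h1
        have h2 : 0 ≤ D P := hD0 P
        have h3 : (0 : ℤ) < P.deg := by exact_mod_cast Place.deg_pos hK P
        have h4 : D P * (P.deg : ℤ) ≤ 0 := by simpa using h1
        nlinarith }
  exact Nat.card_unique

theorem one_lt_card : (1 : ℤ) < (Nat.card k : ℤ) := by
  have : 1 < Nat.card k := Finite.one_lt_card
  exact_mod_cast this

/-- the numerator has no terms of degree `> 2g` -/
theorem coeff_numerZ_eq_zero (hK : IsFunctionField k K) {n : ℕ} (hn : 2 * genus k K < n) :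
    PowerSeries.coeff n (numerZ k K) = 0 := by
  have := finite_Cl0 (k := k) hK
  have := Fintype.ofFinite (Cl0 k K)
  obtain ⟨D₁, hD₁⟩ := exists_deg_one hK
  have h1 := coeff_numerZ_Tfun hK hD₁ n
  have h2 := Tfun_dual hK hD₁ (2 * (genus k K : ℤ) - n)
  rw [Tfun_neg hK hD₁ (show 2 * (genus k K : ℤ) - n < 0 by omega)] at h2
  have e : 2 * (genus k K : ℤ) - (2 * (genus k K : ℤ) - n) = n := by ring
  rw [e] at h2
  simp only [Int.cast_zero, mul_zero] at h2
  have h3 : Tfun D₁ n = 0 := by exact_mod_cast h2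
  rw [h3] at h1
  have hq := one_lt_card (k := k)
  rcases mul_eq_zero.mp h1 with h | h
  · omega
  · exact h

omit [Finite k] in
theorem coeff_zero_numerZ (hK : IsFunctionField k K) :
    PowerSeries.coeff 0 (numerZ k K) = 1 := by
  have h0 : aZ k K ((0 : ℕ) : ℤ) = 1 := by rw [aZ_nat, effDivCount_zero hK]; rfl
  have h1 : aZ k K (((0 : ℕ) : ℤ) - 1) = 0 := aZ_neg k K (by norm_num)
  have h2 : aZ k K (((0 : ℕ) : ℤ) - 2) = 0 := aZ_neg k K (by norm_num)
  rw [coeff_numerZ, h0, h1, h2]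
  ring

/-- the functional equation for the coefficients of the numerator -/
theorem coeff_numerZ_dual (hK : IsFunctionField k K) {i : ℕ} (hi : i ≤ 2 * genus k K) :
    ((PowerSeries.coeff (2 * genus k K - i) (numerZ k K) : ℤ) : ℚ) =
      (Nat.card k : ℚ) ^ ((genus k K : ℤ) - i) * ((PowerSeries.coeff i (numerZ k K) : ℤ) : ℚ) := by
  have := finite_Cl0 (k := k) hK
  have := Fintype.ofFinite (Cl0 k K)
  obtain ⟨D₁, hD₁⟩ := exists_deg_one hK
  have h1 := coeff_numerZ_Tfun hK hD₁ (2 * genus k K - i)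
  have h2 := coeff_numerZ_Tfun hK hD₁ i
  have h3 := Tfun_dual hK hD₁ i
  have e : ((2 * genus k K - i : ℕ) : ℤ) = 2 * (genus k K : ℤ) - i := by
    rw [Nat.cast_sub hi]; push_cast; ring
  rw [e] at h1
  rw [← h1, ← h2] at h3
  push_cast at h3
  have hq : ((Nat.card k : ℚ) - 1) ≠ 0 := by
    have := one_lt_card (k := k)
    have h : (1 : ℚ) < (Nat.card k : ℚ) := by exact_mod_cast this
    linarith
  apply mul_left_cancel₀ hq
  rw [h3]
  ring

theorem coeff_top_numerZ (hK : IsFunctionField k K) :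
    PowerSeries.coeff (2 * genus k K) (numerZ k K) = (Nat.card k : ℤ) ^ genus k K := by
  have h1 := coeff_numerZ_dual hK (i := 0) (Nat.zero_le _)
  rw [coeff_zero_numerZ hK] at h1
  simp only [Nat.sub_zero, Nat.cast_zero, sub_zero, Int.cast_one, mul_one, zpow_natCast] at h1
  exact_mod_cast h1

/-- rationality: the numerator is a polynomial -/
theorem numerZ_eq_trunc (hK : IsFunctionField k K) :
    ((PowerSeries.trunc (2 * genus k K + 1) (numerZ k K) : Polynomial ℤ) : PowerSeries ℤ) =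
      numerZ k K := by
  ext n
  rw [Polynomial.coeff_coe, PowerSeries.coeff_trunc]
  split_ifs with h
  · rfl
  · rw [coeff_numerZ_eq_zero hK (by omega)]

/-- `a_M - q a_{M-1} = h` for `M ≥ 2g` -/
theorem effDivCount_sub (hK : IsFunctionField k K) {M : ℕ} (hM : 2 * genus k K ≤ M) (hM1 : 1 ≤ M) :
    (effDivCount k K M : ℤ) - (Nat.card k : ℤ) * effDivCount k K (M - 1) = Nat.card (Cl0 k K) := by
  have := finite_Cl0 (k := k) hK
  have := Fintype.ofFinite (Cl0 k K)
  obtain ⟨D₁, hD₁⟩ := exists_deg_one hK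
  have h1 := Sfun_nat hK hD₁ M
  have h2 := Sfun_nat hK hD₁ (M - 1)
  have e : ((M - 1 : ℕ) : ℤ) = (M : ℤ) - 1 := by rw [Nat.cast_sub hM1]; simp
  rw [e] at h2
  have h3 := Sfun_dual hK hD₁ (M : ℤ)
  have h4 := Sfun_dual hK hD₁ ((M : ℤ) - 1)
  rw [Sfun_neg hK hD₁ (show 2 * (genus k K : ℤ) - 2 - M < 0 by omega)] at h3
  rw [Sfun_neg hK hD₁ (show 2 * (genus k K : ℤ) - 2 - (M - 1) < 0 by omega)] at h4
  have hq0 : (Nat.card k : ℚ) ≠ 0 := by
    have : 0 < Nat.card k := Nat.card_pos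
    positivity
  have e2 : (M : ℤ) + 1 - genus k K = ((M : ℤ) - 1 + 1 - genus k K) + 1 := by ring
  rw [e2, zpow_add₀ hq0, zpow_one] at h3
  have h5 : (Sfun D₁ M : ℚ) = (Nat.card k : ℚ) * (Sfun D₁ ((M : ℤ) - 1) : ℚ) := by
    rw [h3, h4]; ring
  have h6 : Sfun D₁ M = (Nat.card k : ℤ) * Sfun D₁ ((M : ℤ) - 1) := by exact_mod_cast h5
  have hq := one_lt_card (k := k)
  have hq' : ((Nat.card k : ℤ) - 1) ≠ 0 := by omega
  apply mul_left_cancel₀ hq'
  rw [Nat.card_eq_fintype_card (α := Cl0 k K)]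
  linear_combination h1 - (Nat.card k : ℤ) * h2 + h6

/-- `L(1) = h` -/
theorem eval_one_eq_card (hK : IsFunctionField k K) (p : Polynomial ℤ)
    (hp : (p : PowerSeries ℤ) = numerZ k K) : p.eval 1 = Nat.card (Cl0 k K) := by
  set M := max (2 * genus k K + 1) (p.natDegree + 1) with hM
  have h1 : (1 - PowerSeries.C (Nat.card k : ℤ) * PowerSeries.X) * zetaZ k K =
      (p : PowerSeries ℤ) * PowerSeries.mk 1 := by
    rw [hp]
    unfold numerZ
    have := PowerSeries.mk_one_mul_one_sub_eq_one ℤ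
    calc (1 - PowerSeries.C (Nat.card k : ℤ) * PowerSeries.X) * zetaZ k K
        = (PowerSeries.mk 1 * (1 - PowerSeries.X)) *
            ((1 - PowerSeries.C (Nat.card k : ℤ) * PowerSeries.X) * zetaZ k K) := by
          rw [this, one_mul]
      _ = _ := by ring
  have h2 := congrArg (PowerSeries.coeff M) h1
  have hl : PowerSeries.coeff M ((1 - PowerSeries.C (Nat.card k : ℤ) * PowerSeries.X) * zetaZ k K) =
      (effDivCount k K M : ℤ) - (Nat.card k : ℤ) * effDivCount k K (M - 1) := by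
    have : (1 - PowerSeries.C (Nat.card k : ℤ) * PowerSeries.X) * zetaZ k K =
        zetaZ k K - PowerSeries.C (Nat.card k : ℤ) * (PowerSeries.X ^ 1 * zetaZ k K) := by ring
    rw [this, map_sub, PowerSeries.coeff_C_mul, PowerSeries.coeff_X_pow_mul']
    unfold zetaZ
    simp only [PowerSeries.coeff_mk]
    rw [if_pos (by omega)]
  have hr : PowerSeries.coeff M ((p : PowerSeries ℤ) * PowerSeries.mk 1) = p.eval 1 := by
    rw [PowerSeries.coeff_mul, Polynomial.eval_eq_sum_range' (show p.natDegree < M + 1 by omega),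
      Finset.Nat.sum_antidiagonal_eq_sum_range_succ_mk]
    refine Finset.sum_congr rfl fun i _ => ?_
    rw [PowerSeries.coeff_mk, Polynomial.coeff_coe]
    simp
  rw [hl, hr] at h2
  rw [← h2]
  exact effDivCount_sub hK (by omega) (by omega)

end Main

end Groth.Agent.Helper9.Zeta
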