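import Mathlib
import Groth.Prelude.Def_W4bk4goldsch45
import Groth.Agent.Lib.Helper9.Zeta.Zeta3
import Groth.Agent.Lib.Helper9.Zeta.Pair

/-! Zeta function: factorization of the numerator with paired reciprocal roots. -/

namespace Groth.Agent.Helper9.Zeta

open FunFld Groth.Agent.Lib.Helper4.FF Groth.Agent.Helper9.FFExt Polynomial

section Reflect

theorem natDegree_prod_le_card {R : Type*} [CommSemiring R] {ι : Type*} (s : Finset ι)
    (f : ι → R[X]) (hf : ∀ i ∈ s, (f i).natDegree ≤ 1) : (∏ i ∈ s, f i).natDegree ≤ s.card := by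
  calc (∏ i ∈ s, f i).natDegree ≤ ∑ i ∈ s, (f i).natDegree := natDegree_prod_le _ _
    _ ≤ ∑ _i ∈ s, 1 := Finset.sum_le_sum hf
    _ = s.card := by simp

theorem reflect_prod {R : Type*} [CommSemiring R] {ι : Type*} [DecidableEq ι] (s : Finset ι)
    (f : ι → R[X]) (hf : ∀ i ∈ s, (f i).natDegree ≤ 1) :
    reflect s.card (∏ i ∈ s, f i) = ∏ i ∈ s, reflect 1 (f i) := by
  induction s using Finset.induction_on with
  | empty => simp [reflect_one]
  | insert a s ha ih =>
    rw [Finset.prod_insert ha, Finset.prod_insert ha, Finset.card_insert_of_notMem ha, add_comm,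
      reflect_mul _ _ (hf a (Finset.mem_insert_self a s))
        (natDegree_prod_le_card s f fun i hi => hf i (Finset.mem_insert_of_mem hi)),
      ih fun i hi => hf i (Finset.mem_insert_of_mem hi)]

theorem reflect_one_X_sub_C {R : Type*} [CommRing R] (a : R) :
    reflect 1 (X - C a : R[X]) = 1 - C a * X := by
  rw [reflect_sub, reflect_one_X, reflect_C, pow_one]

end Reflect

section Stable

theorem eval_sym {g : ℕ} {q : ℂ} (R : ℂ[X]) (hdeg : R.natDegree = 2 * g)
    (hsym : ∀ i ≤ 2 * g, q ^ i * R.coeff i = q ^ g * R.coeff (2 * g - i)) {t : ℂ} (ht : t ≠ 0) :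
    t ^ (2 * g) * R.eval (q / t) = q ^ g * R.eval t := by
  rw [eval_eq_sum_range' (show R.natDegree < 2 * g + 1 by omega),
    eval_eq_sum_range' (show R.natDegree < 2 * g + 1 by omega), Finset.mul_sum, Finset.mul_sum,
    ← Finset.sum_range_reflect (fun j => q ^ g * (R.coeff j * t ^ j))]
  refine Finset.sum_congr rfl fun i hi => ?_
  have hi' : i ≤ 2 * g := by
    have := Finset.mem_range.mp hi
    omega
  have e : 2 * g + 1 - 1 - i = 2 * g - i := by omega
  rw [e]
  have h1 : t ^ (2 * g) * (q / t) ^ i = q ^ i * t ^ (2 * g - i) := by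
    rw [div_pow, pow_sub₀ t ht hi']
    field_simp
  calc t ^ (2 * g) * (R.coeff i * (q / t) ^ i) = R.coeff i * (t ^ (2 * g) * (q / t) ^ i) := by ring
    _ = (q ^ i * R.coeff i) * t ^ (2 * g - i) := by rw [h1]; ring
    _ = _ := by rw [hsym i hi']; ring

theorem roots_stable {g : ℕ} {q : ℂ} (hq : q ≠ 0) (R : ℂ[X]) (hm : R.Monic)
    (hdeg : R.natDegree = 2 * g)
    (hsym : ∀ i ≤ 2 * g, q ^ i * R.coeff i = q ^ g * R.coeff (2 * g - i)) :
    R.roots.map (fun a => q / a) = R.roots ∧ (∀ a ∈ R.roots, a ≠ 0) ∧ R.roots.prod = q ^ g := by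
  have hsplit : R.Splits := IsAlgClosed.splits R
  have hcard : Multiset.card R.roots = 2 * g := by
    rw [IsAlgClosed.card_roots_eq_natDegree, hdeg]
  have hc0 : R.coeff 0 = q ^ g := by
    have := hsym 0 (Nat.zero_le _)
    rw [pow_zero, one_mul, Nat.sub_zero, ← hdeg, hm.coeff_natDegree, mul_one] at this
    exact this
  have hprod : R.roots.prod = q ^ g := by
    have := hsplit.coeff_zero_eq_prod_roots_of_monic hm
    rw [hc0, hdeg, pow_mul] at this
    simp only [even_two, Even.neg_pow, one_pow, one_mul] at this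
    exact this.symm
  have hne : ∀ a ∈ R.roots, a ≠ 0 := by
    intro a ha h0
    rw [h0] at ha
    have := (mem_roots hm.ne_zero).mp ha
    rw [IsRoot.def, ← coeff_zero_eq_eval_zero, hc0] at this
    exact pow_ne_zero g hq this
  refine ⟨?_, hne, hprod⟩
  -- the polynomial with roots q / a
  set S : ℂ[X] := (R.roots.map (fun a => X - C (q / a))).prod with hS
  have hSR : S = R := by
    apply eq_of_infinite_eval_eq
    apply Set.Infinite.mono (s := {t : ℂ | t ≠ 0})
    · intro t ht
      have ht0 : t ≠ 0 := ht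
      rw [Set.mem_ofPred_eq]
      have h1 : S.eval t = (R.roots.map (fun a => t - q / a)).prod := by
        rw [hS, eval_multiset_prod, Multiset.map_map]
        congr 1
        apply Multiset.map_congr rfl
        intro a _
        simp
      have h2 : R.eval (q / t) = (R.roots.map (fun a => q / t - a)).prod :=
        hsplit.eval_eq_prod_roots_of_monic hm _
      have h3 : R.roots.prod * S.eval t = t ^ (2 * g) * R.eval (q / t) := by
        rw [h1, h2]
        have e1 : R.roots.prod = (R.roots.map (fun a => a)).prod := by rw [Multiset.map_id']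
        rw [e1, ← Multiset.prod_map_mul]
        have e2 : t ^ (2 * g) = (R.roots.map (fun _ => (-t))).prod := by
          rw [Multiset.map_const', Multiset.prod_replicate, hcard, pow_mul, pow_mul]
          simp
        rw [e2, ← Multiset.prod_map_mul]
        congr 1
        apply Multiset.map_congr rfl
        intro a ha
        have ha0 := hne a ha
        field_simp
        ring
      rw [hprod, eval_sym R hdeg hsym ht0] at h3
      exact mul_left_cancel₀ (pow_ne_zero g hq) h3
    · have : {t : ℂ | t ≠ 0} = {0}ᶜ := by ext; simp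
      rw [this]
      exact (Set.finite_singleton (0 : ℂ)).infinite_compl
  have h4 : S.roots = R.roots.map (fun a => q / a) := by
    rw [hS]
    have : (R.roots.map (fun a => X - C (q / a))) =
        ((R.roots.map (fun a => q / a)).map (fun b => X - C b)) := by
      rw [Multiset.map_map]; rfl
    rw [this, roots_multiset_prod_X_sub_C]
  rw [← h4, hSR]

end Stable

section Factor

variable {k K : Type*} [Field k] [Field K] [Algebra k K] [Finite k]

/-- integer form of the functional equation -/
theorem coeff_numerZ_sym (hK : IsFunctionField k K) {i : ℕ} (hi : i ≤ 2 * genus k K) :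
    (Nat.card k : ℤ) ^ i * PowerSeries.coeff (2 * genus k K - i) (numerZ k K) =
      (Nat.card k : ℤ) ^ genus k K * PowerSeries.coeff i (numerZ k K) := by
  have h1 := coeff_numerZ_dual hK hi
  have hq0 : (Nat.card k : ℚ) ≠ 0 := by
    have : 0 < Nat.card k := Nat.card_pos
    positivity
  have h2 : ((Nat.card k : ℚ) ^ i * ((PowerSeries.coeff (2 * genus k K - i) (numerZ k K) : ℤ) : ℚ)) =
      (Nat.card k : ℚ) ^ genus k K * ((PowerSeries.coeff i (numerZ k K) : ℤ) : ℚ) := by
    rw [h1, ← mul_assoc, ← zpow_natCast, ← zpow_add₀ hq0]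
    congr 1
    rw [← zpow_natCast]
    congr 1
    ring
  exact_mod_cast h2

/-- the numerator factors as `∏ (1 - αᵢ t)` with `αᵢ α_{2g+1-i} = q` -/
theorem exists_alpha (hK : IsFunctionField k K) :
    ∃ α : Fin (2 * genus k K) → ℂ, (∀ i, IsIntegral ℤ (α i)) ∧
      PowerSeries.map (Int.castRingHom ℂ) (numerZ k K) =
        ((∏ i, (1 - C (α i) * X) : ℂ[X]) : PowerSeries ℂ) ∧
      ∀ i, α i * α (Fin.rev i) = (Nat.card k : ℂ) := by
  classical
  set g := genus k K with hg
  set p : ℤ[X] := PowerSeries.trunc (2 * g + 1) (numerZ k K) with hpdef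
  have hp : (p : PowerSeries ℤ) = numerZ k K := numerZ_eq_trunc hK
  have hpc : ∀ n, p.coeff n = PowerSeries.coeff n (numerZ k K) := fun n => by
    rw [← hp, coeff_coe]
  set r : ℤ[X] := reflect (2 * g) p with hrdef
  have hrc : ∀ n ≤ 2 * g, r.coeff n = PowerSeries.coeff (2 * g - n) (numerZ k K) := by
    intro n hn
    rw [hrdef, coeff_reflect, revAt_le hn, hpc]
  have hrc' : ∀ n, 2 * g < n → r.coeff n = 0 := by
    intro n hn
    rw [hrdef, coeff_reflect, revAt_eq_self_of_lt hn, hpc, coeff_numerZ_eq_zero hK hn]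
  have hrdeg : r.natDegree ≤ 2 * g := natDegree_le_iff_coeff_eq_zero.mpr hrc'
  have hrm : r.Monic := by
    apply monic_of_natDegree_le_of_coeff_eq_one (2 * g) hrdeg
    rw [hrc _ le_rfl, Nat.sub_self, coeff_zero_numerZ hK]
  have hrdeg2 : r.natDegree = 2 * g := by
    apply le_antisymm hrdeg
    apply le_natDegree_of_ne_zero
    rw [hrc _ le_rfl, Nat.sub_self, coeff_zero_numerZ hK]
    exact one_ne_zero
  set R : ℂ[X] := r.map (Int.castRingHom ℂ) with hRdef
  have hRm : R.Monic := hrm.map _
  have hRdeg : R.natDegree = 2 * g := by rw [hRdef, hrm.natDegree_map, hrdeg2]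
  have hq0 : (Nat.card k : ℂ) ≠ 0 := by
    have : 0 < Nat.card k := Nat.card_pos
    exact_mod_cast this.ne'
  have hsym : ∀ i ≤ 2 * g, (Nat.card k : ℂ) ^ i * R.coeff i =
      (Nat.card k : ℂ) ^ g * R.coeff (2 * g - i) := by
    intro i hi
    rw [hRdef, coeff_map, coeff_map, hrc i hi, hrc (2 * g - i) (Nat.sub_le _ _),
      Nat.sub_sub_self hi]
    have := coeff_numerZ_sym hK hi
    rw [← hg] at this
    have h2 := congrArg (Int.castRingHom ℂ) this
    simpa using h2
  obtain ⟨hst, hne, hprod⟩ := roots_stable hq0 R hRm hRdeg hsym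
  have hcard : Multiset.card R.roots = 2 * g := by
    rw [IsAlgClosed.card_roots_eq_natDegree, hRdeg]
  obtain ⟨α, hα, hpair⟩ := enum_of_stable hq0 g R.roots hcard hne hst hprod
  refine ⟨α, ?_, ?_, hpair⟩
  · intro i
    have hmem : α i ∈ R.roots := by
      rw [← hα]
      exact Multiset.mem_map_of_mem _ (Finset.mem_univ_val i)
    have hroot := (mem_roots hRm.ne_zero).mp hmem
    refine ⟨r, hrm, ?_⟩
    rw [IsRoot.def, hRdef, eval_map] at hroot
    exact hroot
  · have hRprod : R = ∏ i : Fin (2 * g), (X - C (α i)) := by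
      conv_lhs => rw [(IsAlgClosed.splits R).eq_prod_roots_of_monic hRm, ← hα, Multiset.map_map]
      rfl
    have h1 : reflect (2 * g) R = ∏ i : Fin (2 * g), (1 - C (α i) * X) := by
      have := reflect_prod (Finset.univ : Finset (Fin (2 * g))) (fun i => (X - C (α i) : ℂ[X]))
        (fun i _ => natDegree_X_sub_C_le _)
      rw [Finset.card_univ, Fintype.card_fin] at this
      rw [hRprod, this]
      exact Finset.prod_congr rfl fun i _ => reflect_one_X_sub_C _
    have h2 : reflect (2 * g) R = p.map (Int.castRingHom ℂ) := by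
      rw [hRdef, hrdef, ← reflect_map, reflect_reflect]
    rw [← h1, h2, polynomial_map_coe, hp]

end Factor

end Groth.Agent.Helper9.Zeta
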