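import Mathlib
import Groth.Prelude.Def_W4bk4goldsch45
import Groth.Agent.Lib.Helper9.Zeta.Zeta4

/-! Zeta function: the recursion `n a_n = ∑ N_i a_{n-i}`. -/

namespace Groth.Agent.Helper9.Zeta

open FunFld Groth.Agent.Lib.Helper4.FF Groth.Agent.Helper9.FFExt

section Recursion

variable {k K : Type*} [Field k] [Field K] [Algebra k K] [Finite k]

/-- `N_i = ∑_{deg P ∣ i} deg P` -/
noncomputable def Ncount (k K : Type*) [Field k] [Field K] [Algebra k K] (i : ℕ) : ℕ :=
  ∑ᶠ P : Place k K, if P.deg ∣ i then P.deg else 0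

omit [Finite k] in
theorem Ncount_eq_sum {i : ℕ} (s : Finset (Place k K))
    (hs : ∀ P : Place k K, P.deg ∣ i → P ∈ s) :
    Ncount k K i = ∑ P ∈ s, if P.deg ∣ i then P.deg else 0 := by
  unfold Ncount
  apply finsum_eq_sum_of_support_subset
  intro P hP
  rw [Function.mem_support] at hP
  by_cases h : P.deg ∣ i
  · exact hs P h
  · rw [if_neg h] at hP
    exact absurd rfl hP

/-- the finset of effective divisors of degree `n` -/
noncomputable def Eff (hK : IsFunctionField k K) (n : ℕ) : Finset (Divisor k K) :=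
  (finite_effDiv hK n).toFinset

theorem mem_Eff (hK : IsFunctionField k K) (n : ℕ) (D : Divisor k K) :
    D ∈ Eff hK n ↔ 0 ≤ D ∧ D.deg = n := by
  unfold Eff
  rw [Set.Finite.mem_toFinset]
  rfl

theorem card_Eff (hK : IsFunctionField k K) (n : ℕ) : (Eff hK n).card = effDivCount k K n := by
  unfold Eff effDivCount
  rw [← Set.ncard_eq_toFinset_card _ (finite_effDiv hK n), ← Nat.card_coe_set_eq]
  rfl

/-- the finset of places of degree `≤ n` -/
noncomputable def Pl (hK : IsFunctionField k K) (n : ℕ) : Finset (Place k K) :=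
  (finite_places_deg_le hK n).toFinset

theorem mem_Pl (hK : IsFunctionField k K) (n : ℕ) (P : Place k K) :
    P ∈ Pl hK n ↔ P.deg ≤ n := by
  unfold Pl
  rw [Set.Finite.mem_toFinset]
  rfl

theorem deg_eq_sum_Pl (hK : IsFunctionField k K) {n : ℕ} {D : Divisor k K} (hD : D ∈ Eff hK n) :
    (n : ℤ) = ∑ P ∈ Pl hK n, D P * (P.deg : ℤ) := by
  obtain ⟨hD0, hDn⟩ := (mem_Eff hK n D).mp hD
  rw [← hDn]
  unfold Divisor.deg
  apply Finsupp.sum_of_support_subset
  · intro P hP
    rw [Finsupp.mem_support_iff] at hP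
    rw [mem_Pl]
    have h1 : 1 ≤ D P := by
      have : (0 : ℤ) ≤ D P := hD0 P
      omega
    have h2 := coeff_mul_deg_le_deg hD0 P
    rw [hDn] at h2
    have h3 : (P.deg : ℤ) ≤ D P * (P.deg : ℤ) := by nlinarith
    exact_mod_cast h3.trans h2
  · intro P _
    exact zero_mul _

/-- shifting by `j P` -/
theorem card_filter_le (hK : IsFunctionField k K) (n : ℕ) (P : Place k K) (j : ℕ) :
    ((Eff hK n).filter (fun D => (j : ℤ) ≤ D P)).card =
      if j * P.deg ≤ n then effDivCount k K (n - j * P.deg) else 0 := by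
  classical
  split_ifs with hle
  · rw [← card_Eff hK]
    apply Finset.card_nbij' (fun D => D - (j : ℤ) • Finsupp.single P 1)
      (fun E => E + (j : ℤ) • Finsupp.single P 1)
    · intro D hD
      rw [Finset.mem_coe, Finset.mem_filter, mem_Eff] at hD
      obtain ⟨⟨hD0, hDn⟩, hj⟩ := hD
      rw [Finset.mem_coe, mem_Eff]
      constructor
      · intro Q
        rw [Finsupp.zero_apply, Finsupp.sub_apply, Finsupp.smul_apply, smul_eq_mul]
        by_cases hQ : Q = P
        · subst hQ
          rw [Finsupp.single_eq_same, mul_one]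
          omega
        · rw [Finsupp.single_eq_of_ne hQ, mul_zero, sub_zero]
          exact hD0 Q
      · rw [Divisor.deg_sub, deg_zsmul, Divisor.deg_single, hDn, Nat.cast_sub hle]
        push_cast
        ring
    · intro E hE
      rw [Finset.mem_coe, mem_Eff] at hE
      obtain ⟨hE0, hEn⟩ := hE
      rw [Finset.mem_coe, Finset.mem_filter, mem_Eff]
      refine ⟨⟨?_, ?_⟩, ?_⟩
      · intro Q
        rw [Finsupp.zero_apply, Finsupp.add_apply, Finsupp.smul_apply, smul_eq_mul]
        have h1 : (0 : ℤ) ≤ E Q := hE0 Q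
        have h2 : (0 : ℤ) ≤ (j : ℤ) * (Finsupp.single P (1 : ℤ)) Q := by
          by_cases hQ : Q = P
          · subst hQ
            rw [Finsupp.single_eq_same, mul_one]
            exact Int.natCast_nonneg _
          · rw [Finsupp.single_eq_of_ne hQ, mul_zero]
        omega
      · rw [Divisor.deg_add, deg_zsmul, Divisor.deg_single, hEn, Nat.cast_sub hle]
        push_cast
        ring
      · rw [Finsupp.add_apply, Finsupp.smul_apply, smul_eq_mul, Finsupp.single_eq_same, mul_one]
        have h1 : (0 : ℤ) ≤ E P := hE0 P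
        omega
    · intro D _
      exact sub_add_cancel _ _
    · intro E _
      exact add_sub_cancel_right _ _
  · rw [Finset.card_eq_zero, Finset.filter_eq_empty_iff]
    intro D hD hj
    obtain ⟨hD0, hDn⟩ := (mem_Eff hK n D).mp hD
    have h2 := coeff_mul_deg_le_deg hD0 P
    rw [hDn] at h2
    have h3 : (j : ℤ) * (P.deg : ℤ) ≤ D P * (P.deg : ℤ) :=
      mul_le_mul_of_nonneg_right hj (Int.natCast_nonneg _)
    have h4 : ((j * P.deg : ℕ) : ℤ) ≤ n := by push_cast; exact h3.trans h2
    exact hle (by exact_mod_cast h4)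

theorem sum_indicator_le {n : ℕ} {m : ℤ} (h0 : 0 ≤ m) (hn : m ≤ n) :
    m = ∑ j ∈ Finset.Icc 1 n, if (j : ℤ) ≤ m then (1 : ℤ) else 0 := by
  obtain ⟨m', rfl⟩ := Int.eq_ofNat_of_zero_le h0
  have hn' : m' ≤ n := by exact_mod_cast hn
  rw [Finset.sum_boole]
  have : (Finset.Icc 1 n).filter (fun j : ℕ => (j : ℤ) ≤ (m' : ℤ)) = Finset.Icc 1 m' := by
    ext j
    simp only [Finset.mem_filter, Finset.mem_Icc, Nat.cast_le]
    omega
  rw [this, Nat.card_Icc]
  simp

theorem sum_dvd_reindex (a : ℕ → ℤ) (n d : ℕ) (hd : 1 ≤ d) :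
    ∑ i ∈ Finset.Icc 1 n, (if d ∣ i then a (n - i) else 0) =
      ∑ j ∈ Finset.Icc 1 n, (if j * d ≤ n then a (n - j * d) else 0) := by
  rw [← Finset.sum_filter, ← Finset.sum_filter]
  apply Finset.sum_nbij' (fun i => i / d) (fun j => j * d)
  · intro i hi
    rw [Finset.mem_filter, Finset.mem_Icc] at hi
    obtain ⟨⟨h1, h2⟩, c, rfl⟩ := hi
    rw [Finset.mem_filter, Finset.mem_Icc, Nat.mul_div_cancel_left c (by omega)]
    have hc : 1 ≤ c := by
      rcases Nat.eq_zero_or_pos c with h | h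
      · rw [h, mul_zero] at h1; omega
      · exact h
    refine ⟨⟨hc, ?_⟩, by rw [mul_comm]; exact h2⟩
    calc c ≤ d * c := Nat.le_mul_of_pos_left c (by omega)
      _ ≤ n := h2
  · intro j hj
    rw [Finset.mem_filter, Finset.mem_Icc] at hj
    obtain ⟨⟨h1, h2⟩, h3⟩ := hj
    rw [Finset.mem_filter, Finset.mem_Icc]
    refine ⟨⟨?_, h3⟩, Dvd.intro_left j rfl⟩
    calc 1 = 1 * 1 := rfl
      _ ≤ j * d := Nat.mul_le_mul h1 hd
  · intro i hi
    rw [Finset.mem_filter] at hi
    exact Nat.div_mul_cancel hi.2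
  · intro j _
    exact Nat.mul_div_cancel j (by omega)
  · intro i hi
    rw [Finset.mem_filter] at hi
    rw [Nat.div_mul_cancel hi.2]

/-- the recursion `n a_n = ∑_{i=1}^n N_i a_{n-i}` -/
theorem recursion (hK : IsFunctionField k K) (n : ℕ) :
    (n : ℤ) * effDivCount k K n =
      ∑ i ∈ Finset.Icc 1 n, (Ncount k K i : ℤ) * effDivCount k K (n - i) := by
  classical
  -- left side
  have hL : (n : ℤ) * effDivCount k K n =
      ∑ P ∈ Pl hK n, (P.deg : ℤ) * ∑ j ∈ Finset.Icc 1 n,
        (if j * P.deg ≤ n then (effDivCount k K (n - j * P.deg) : ℤ) else 0) := by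
    rw [← card_Eff hK n, mul_comm, ← nsmul_eq_mul, ← Finset.sum_const]
    rw [Finset.sum_congr rfl fun D hD => deg_eq_sum_Pl hK hD, Finset.sum_comm]
    refine Finset.sum_congr rfl fun P _ => ?_
    rw [← Finset.sum_mul, mul_comm]
    congr 1
    have h1 : ∀ D ∈ Eff hK n, D P = ∑ j ∈ Finset.Icc 1 n, if (j : ℤ) ≤ D P then (1 : ℤ) else 0 := by
      intro D hD
      obtain ⟨hD0, hDn⟩ := (mem_Eff hK n D).mp hD
      apply sum_indicator_le (hD0 P)
      have h2 := coeff_mul_deg_le_deg hD0 P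
      rw [hDn] at h2
      have h3 : (1 : ℤ) ≤ P.deg := by exact_mod_cast Place.deg_pos hK P
      have h4 : (0 : ℤ) ≤ D P := hD0 P
      nlinarith
    rw [Finset.sum_congr rfl h1, Finset.sum_comm]
    refine Finset.sum_congr rfl fun j _ => ?_
    rw [Finset.sum_boole, card_filter_le hK n P j]
    split_ifs <;> simp
  -- right side
  have hR : ∑ i ∈ Finset.Icc 1 n, (Ncount k K i : ℤ) * effDivCount k K (n - i) =
      ∑ P ∈ Pl hK n, (P.deg : ℤ) * ∑ i ∈ Finset.Icc 1 n,
        (if P.deg ∣ i then (effDivCount k K (n - i) : ℤ) else 0) := by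
    have h1 : ∀ i ∈ Finset.Icc 1 n, (Ncount k K i : ℤ) * effDivCount k K (n - i) =
        ∑ P ∈ Pl hK n, (P.deg : ℤ) * (if P.deg ∣ i then (effDivCount k K (n - i) : ℤ) else 0) := by
      intro i hi
      rw [Finset.mem_Icc] at hi
      rw [Ncount_eq_sum (Pl hK n) (fun P hP => by
        rw [mem_Pl]
        exact (Nat.le_of_dvd (by omega) hP).trans hi.2)]
      push_cast
      rw [Finset.sum_mul]
      refine Finset.sum_congr rfl fun P _ => ?_
      split_ifs <;> simp
    rw [Finset.sum_congr rfl h1, Finset.sum_comm]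
    refine Finset.sum_congr rfl fun P _ => ?_
    rw [Finset.mul_sum]
  rw [hL, hR]
  refine Finset.sum_congr rfl fun P _ => ?_
  congr 1
  exact (sum_dvd_reindex (fun m => (effDivCount k K m : ℤ)) n P.deg (Place.deg_pos hK P)).symm

end Recursion

end Groth.Agent.Helper9.Zeta
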