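import Mathlib
import Groth.Prelude.Def_W4bk4goldsch45
import Groth.Agent.Lib.Helper9.Zeta.Zeta5

/-! Constant field extensions, part 4: from `IsConstExt` to the tensor product description;
place counts in constant field extensions. -/

namespace Groth.Agent.Helper9.Zeta

open FunFld Groth.Agent.Lib.Helper4.FF Groth.Agent.Helper9.FFExt TensorProduct

section Bij

variable {k k' K K' : Type*} [Field k] [Field k'] [Field K] [Field K']
  [Algebra k k'] [Algebra k K] [Algebra K K'] [Algebra k' K'] [Algebra k K']
  [IsScalarTower k k' K'] [IsScalarTower k K K']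

theorem bijective_pm_of_adjoin [FiniteDimensional k k']
    (hadj : Algebra.adjoin K (Set.range (algebraMap k' K')) = ⊤)
    (hfr : Module.finrank K K' = Module.finrank k k') : Function.Bijective (pm k k' K K') := by
  classical
  let b := Module.finBasis k k'
  set W : Submodule K K' := Submodule.span K (Set.range fun i => algebraMap k' K' (b i)) with hW
  have hrange : ∀ c : k', algebraMap k' K' c ∈ W := by
    intro c
    rw [← b.sum_repr c, map_sum]
    refine Submodule.sum_mem _ fun i _ => ?_
    rw [Algebra.smul_def, map_mul, ← IsScalarTower.algebraMap_apply,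
      IsScalarTower.algebraMap_apply k K K', ← Algebra.smul_def]
    exact Submodule.smul_mem _ _ (Submodule.subset_span ⟨i, rfl⟩)
  have hmul : ∀ x y, x ∈ W → y ∈ W → x * y ∈ W := by
    intro x y hx hy
    induction hx using Submodule.span_induction with
    | mem x hx =>
      obtain ⟨i, rfl⟩ := hx
      induction hy using Submodule.span_induction with
      | mem y hy =>
        obtain ⟨j, rfl⟩ := hy
        rw [← map_mul]
        exact hrange _
      | zero => rw [mul_zero]; exact Submodule.zero_mem _
      | add y z _ _ hy hz => rw [mul_add]; exact Submodule.add_mem _ hy hz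
      | smul c y _ hy => rw [mul_smul_comm]; exact Submodule.smul_mem _ _ hy
    | zero => rw [zero_mul]; exact Submodule.zero_mem _
    | add x z _ _ hx hz => rw [add_mul]; exact Submodule.add_mem _ hx hz
    | smul c x _ hx => rw [smul_mul_assoc]; exact Submodule.smul_mem _ _ hx
  have hone : (1 : K') ∈ W := by
    rw [← map_one (algebraMap k' K')]
    exact hrange 1
  have hsp : ⊤ ≤ W := by
    have h1 : Algebra.adjoin K (Set.range (algebraMap k' K')) ≤ W.toSubalgebra hone hmul := by
      apply Algebra.adjoin_le
      rintro _ ⟨c, rfl⟩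
      exact hrange c
    rw [hadj] at h1
    intro x _
    exact h1 (Algebra.mem_top)
  have hli : LinearIndependent K (fun i => algebraMap k' K' (b i)) := by
    apply linearIndependent_of_top_le_span_of_card_eq_finrank hsp
    rw [Fintype.card_fin, hfr]
  exact bijective_pm_of_basis b hli hsp

end Bij

section Count

variable {k k' K K' : Type*} [Field k] [Field k'] [Field K] [Field K']
  [Algebra k k'] [Algebra k K] [Algebra K K'] [Algebra k' K'] [Algebra k K']
  [IsScalarTower k k' K'] [IsScalarTower k K K']
  [FiniteDimensional k k'] [Algebra.IsSeparable k k'] [Finite k]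

/-- `N'_n = N_{rn}` for the constant field extension of degree `r` -/
theorem Ncount_constExt (h : Function.Bijective (pm k k' K K')) (hK : IsFunctionField k K)
    {n : ℕ} (hn : 1 ≤ n) :
    Ncount k' K' n = Ncount k K (Module.finrank k k' * n) := by
  classical
  set r := Module.finrank k k' with hr
  have hr0 : 0 < r := Module.finrank_pos
  have hKw : IsFFw k K := hK.1
  have hK' : IsFunctionField k' K' := isFunctionField_constExt h hK
  have hfink' : Finite k' := Module.finite_of_finite k
  choose below hbelow using fun Q' : Place k' K' => exists_belowC (k := k) (K := K) h Q'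
  have hdeg : ∀ Q' : Place k' K', r * Q'.deg = Nat.lcm (below Q').deg r := by
    intro Q'
    have := deg_upC_mul h hKw (hbelow Q')
    rwa [upC_downC] at this
  set s' : Finset (Place k' K') := (Pl hK' n).filter (fun Q' => Q'.deg ∣ n) with hs'
  set t : Finset (Place k K) := (Pl hK (r * n)).filter (fun P => P.deg ∣ r * n) with ht
  have hrn : 1 ≤ r * n := Nat.mul_pos hr0 hn
  have hmem_s' : ∀ Q' : Place k' K', Q' ∈ s' ↔ Q'.deg ∣ n := by
    intro Q'
    rw [hs', Finset.mem_filter, mem_Pl]
    exact ⟨fun h => h.2, fun h => ⟨Nat.le_of_dvd hn h, h⟩⟩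
  have hmem_t : ∀ P : Place k K, P ∈ t ↔ P.deg ∣ r * n := by
    intro P
    rw [ht, Finset.mem_filter, mem_Pl]
    exact ⟨fun h => h.2, fun h => ⟨Nat.le_of_dvd hrn h, h⟩⟩
  have h1 : Ncount k' K' n = ∑ Q' ∈ s', Q'.deg := by
    rw [Ncount_eq_sum s' (fun Q' hQ' => (hmem_s' Q').mpr hQ')]
    refine Finset.sum_congr rfl fun Q' hQ' => ?_
    rw [if_pos ((hmem_s' Q').mp hQ')]
  have h2 : Ncount k K (r * n) = ∑ P ∈ t, P.deg := by
    rw [Ncount_eq_sum t (fun P hP => (hmem_t P).mpr hP)]
    refine Finset.sum_congr rfl fun P hP => ?_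
    rw [if_pos ((hmem_t P).mp hP)]
  have hmaps : ∀ Q' ∈ s', below Q' ∈ t := by
    intro Q' hQ'
    rw [hmem_t]
    have h3 := (hmem_s' Q').mp hQ'
    calc (below Q').deg ∣ Nat.lcm (below Q').deg r := Nat.dvd_lcm_left _ _
      _ = r * Q'.deg := (hdeg Q').symm
      _ ∣ r * n := Nat.mul_dvd_mul_left r h3
  rw [h1, h2, ← Finset.sum_fiberwise_of_maps_to hmaps]
  refine Finset.sum_congr rfl fun P hP => ?_
  have hPdvd := (hmem_t P).mp hP
  -- the fibre over `P`
  have hfib : ∀ Q' : Place k' K', Q' ∈ s'.filter (fun Q' => below Q' = P) ↔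
      IsOver (downC (k := k) Q') P := by
    intro Q'
    rw [Finset.mem_filter, hmem_s']
    constructor
    · rintro ⟨-, rfl⟩
      exact hbelow Q'
    · intro hQ'
      have hP' : below Q' = P := isOver_unique (hbelow Q') hQ'
      refine ⟨?_, hP'⟩
      have h4 : r * Q'.deg ∣ r * n := by
        rw [hdeg Q', hP']
        exact Nat.lcm_dvd hPdvd (Dvd.intro n rfl)
      exact Nat.dvd_of_mul_dvd_mul_left hr0 h4
  have hcard : (s'.filter (fun Q' => below Q' = P)).card = Nat.gcd P.deg r := by
    rw [← (card_over h hKw P).2, ← Nat.card_eq_finsetCard]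
    apply Nat.card_congr
    exact
      { toFun := fun Q' => ⟨downC Q'.1, (hfib Q'.1).mp Q'.2⟩
        invFun := fun Q => ⟨upC Q.1, (hfib _).mpr (by rw [downC_upC]; exact Q.2)⟩
        left_inv := fun Q' => Subtype.ext (upC_downC _)
        right_inv := fun Q => Subtype.ext (downC_upC _) }
  have hterm : ∀ Q' ∈ s'.filter (fun Q' => below Q' = P), r * Q'.deg = Nat.lcm P.deg r := by
    intro Q' hQ'
    rw [Finset.mem_filter] at hQ'
    rw [hdeg Q', hQ'.2]
  apply Nat.eq_of_mul_eq_mul_left hr0
  rw [Finset.mul_sum, Finset.sum_congr rfl hterm, Finset.sum_const, hcard, smul_eq_mul,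
    Nat.gcd_mul_lcm, mul_comm]

end Count

end Groth.Agent.Helper9.Zeta
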