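import Mathlib

/-! Logarithmic derivatives of power series, without inverses. -/

namespace Groth.Agent.Helper9.Zeta

open PowerSeries

section LD

variable {R : Type*} [CommRing R]

/-- `S` is the logarithmic derivative `X f' / f` of `f` -/
def LD (f S : R⟦X⟧) : Prop := X * d⁄dX R f = f * S

theorem LD.mul {f g S T : R⟦X⟧} (hf : LD f S) (hg : LD g T) : LD (f * g) (S + T) := by
  unfold LD at *
  rw [Derivation.leibniz, smul_eq_mul, smul_eq_mul]
  calc X * (f * d⁄dX R g + g * d⁄dX R f) = f * (X * d⁄dX R g) + g * (X * d⁄dX R f) := by ring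
    _ = f * g * (S + T) := by rw [hf, hg]; ring

theorem LD.one : LD (1 : R⟦X⟧) 0 := by
  unfold LD
  rw [derivative_one, mul_zero, mul_zero]

theorem LD.prod {ι : Type*} (s : Finset ι) (f S : ι → R⟦X⟧) (h : ∀ i ∈ s, LD (f i) (S i)) :
    LD (∏ i ∈ s, f i) (∑ i ∈ s, S i) := by
  classical
  induction s using Finset.induction_on with
  | empty => simpa using LD.one
  | insert a s ha ih =>
    rw [Finset.prod_insert ha, Finset.sum_insert ha]
    exact (h a (Finset.mem_insert_self a s)).mul (ih fun i hi => h i (Finset.mem_insert_of_mem hi))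

/-- the series `∑_{n ≥ 1} aⁿ Xⁿ` -/
noncomputable def G (a : R) : R⟦X⟧ := PowerSeries.mk fun n => if n = 0 then 0 else a ^ n

theorem coeff_G (a : R) (n : ℕ) : coeff n (G a) = if n = 0 then 0 else a ^ n := by
  unfold G
  rw [coeff_mk]

theorem LD_one_sub (a : R) : LD (1 - C a * X) (-G a) := by
  unfold LD
  have h1 : d⁄dX R (1 - C a * X) = -C a := by
    rw [map_sub, derivative_one, Derivation.leibniz, derivative_X, derivative_C]
    simp
  rw [h1]
  ext n
  have h2 : (1 - C a * X) * -G a = -G a + C a * (X ^ 1 * G a) := by ring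
  have h3 : X * -C a = -(C a * X ^ 1) := by ring
  rw [h2, h3, map_neg, map_add, map_neg, coeff_C_mul, coeff_C_mul, coeff_X_pow, coeff_X_pow_mul',
    coeff_G, coeff_G]
  rcases Nat.lt_or_ge n 1 with h | h
  · have : n = 0 := by omega
    subst this
    simp
  · rcases Nat.eq_or_lt_of_le h with h' | h'
    · subst h'
      simp
    · have hn0 : n ≠ 0 := by omega
      have hn1 : n ≠ 1 := by omega
      have hn2 : n - 1 ≠ 0 := by omega
      rw [if_neg hn1, if_neg hn0, if_pos h, if_neg hn2]
      have : a ^ n = a * a ^ (n - 1) := by rw [← pow_succ']; congr 1; omega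
      rw [this]
      ring

theorem LD.cancel [IsDomain R] {f g U T : R⟦X⟧} (hfg : LD (f * g) U) (hg : LD g T)
    (hg0 : g ≠ 0) : LD f (U - T) := by
  unfold LD at *
  rw [Derivation.leibniz, smul_eq_mul, smul_eq_mul] at hfg
  have h1 : g * (X * d⁄dX R f) = g * (f * (U - T)) := by
    calc g * (X * d⁄dX R f) = X * (f * d⁄dX R g + g * d⁄dX R f) - f * (X * d⁄dX R g) := by ring
      _ = f * g * U - f * (g * T) := by rw [hfg, hg]
      _ = g * (f * (U - T)) := by ring
  exact mul_left_cancel₀ hg0 h1

theorem LD.unique_right [IsDomain R] {f S T : R⟦X⟧} (h1 : LD f S) (h2 : LD f T) (hf : f ≠ 0) :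
    S = T := by
  unfold LD at *
  exact mul_left_cancel₀ hf (h1.symm.trans h2)

end LD

section Unique

/-- a power series over `ℂ` with constant coefficient one is determined by its logarithmic
derivative -/
theorem LD.unique_left {f h S : ℂ⟦X⟧} (hf : LD f S) (hh : LD h S)
    (hf0 : constantCoeff f = 1) (hh0 : constantCoeff h = 1) : f = h := by
  unfold LD at *
  have hS0 : coeff 0 S = 0 := by
    have := congrArg (coeff 0) hf
    rw [coeff_zero_X_mul, coeff_mul] at this
    simp only [Finset.Nat.antidiagonal_zero, Finset.sum_singleton] at this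
    rw [coeff_zero_eq_constantCoeff_apply, hf0, one_mul] at this
    exact this.symm
  have key : ∀ (u : ℂ⟦X⟧), X * d⁄dX ℂ u = u * S → ∀ n : ℕ,
      ((n : ℂ) + 1) * coeff (n + 1) u = ∑ j ∈ Finset.range (n + 1), coeff j u * coeff (n + 1 - j) S := by
    intro u hu n
    have := congrArg (coeff (n + 1)) hu
    rw [coeff_succ_X_mul, coeff_derivative, coeff_mul,
      Finset.Nat.sum_antidiagonal_eq_sum_range_succ_mk, Finset.sum_range_succ] at this
    simp only [Nat.sub_self, hS0, mul_zero, add_zero] at this
    rw [← this]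
    ring
  ext n
  induction n using Nat.strong_induction_on with
  | _ n ih =>
    rcases Nat.eq_zero_or_pos n with h0 | hpos
    · subst h0
      rw [coeff_zero_eq_constantCoeff_apply, coeff_zero_eq_constantCoeff_apply, hf0, hh0]
    · obtain ⟨m, rfl⟩ : ∃ m, n = m + 1 := ⟨n - 1, by omega⟩
      have h1 := key f hf m
      have h2 := key h hh m
      have h3 : ∑ j ∈ Finset.range (m + 1), coeff j f * coeff (m + 1 - j) S =
          ∑ j ∈ Finset.range (m + 1), coeff j h * coeff (m + 1 - j) S := by
        refine Finset.sum_congr rfl fun j hj => ?_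
        rw [ih j (by have := Finset.mem_range.mp hj; omega)]
      rw [h3, ← h2] at h1
      have hne : ((m : ℂ) + 1) ≠ 0 := by exact_mod_cast Nat.succ_ne_zero m
      exact mul_left_cancel₀ hne h1

end Unique

end Groth.Agent.Helper9.Zeta
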