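import Mathlib
import Groth.Prelude.Def_W4bk4goldsch45
import Groth.Agent.Lib.Helper9.Zeta.CE4
import Groth.Agent.Lib.Helper9.Zeta.LogDer

/-! Zeta function: logarithmic derivative, place counts, constant field extensions. -/

namespace Groth.Agent.Helper9.Zeta

open FunFld Groth.Agent.Lib.Helper4.FF Groth.Agent.Helper9.FFExt PowerSeries

section LDZeta

variable (k K : Type*) [Field k] [Field K] [Algebra k K]

/-- the zeta series over `ℂ` -/
noncomputable def Zc : ℂ⟦X⟧ := PowerSeries.map (Int.castRingHom ℂ) (zetaZ k K)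

/-- the series `∑_{n ≥ 1} N_n Xⁿ` -/
noncomputable def NSc : ℂ⟦X⟧ := PowerSeries.mk fun i => if i = 0 then 0 else (Ncount k K i : ℂ)

theorem coeff_Zc (n : ℕ) : coeff n (Zc k K) = (effDivCount k K n : ℂ) := by
  unfold Zc zetaZ
  rw [coeff_map, coeff_mk]
  simp

variable {k K} [Finite k]

theorem LD_Zc (hK : IsFunctionField k K) : LD (Zc k K) (NSc k K) := by
  unfold LD
  ext n
  have hR : coeff n (Zc k K * NSc k K) =
      ∑ i ∈ Finset.range (n + 1), coeff i (NSc k K) * coeff (n - i) (Zc k K) := by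
    rw [mul_comm (Zc k K), coeff_mul, Finset.Nat.sum_antidiagonal_eq_sum_range_succ_mk]
  rw [hR]
  rcases Nat.eq_zero_or_pos n with h0 | hpos
  · subst h0
    rw [coeff_zero_X_mul]
    simp [NSc]
  · obtain ⟨m, rfl⟩ : ∃ m, n = m + 1 := ⟨n - 1, by omega⟩
    rw [coeff_succ_X_mul, coeff_derivative, coeff_Zc]
    have hrec := recursion hK (m + 1)
    have hrec' : ((m + 1 : ℕ) : ℂ) * (effDivCount k K (m + 1) : ℂ) =
        ∑ i ∈ Finset.Icc 1 (m + 1), (Ncount k K i : ℂ) * (effDivCount k K (m + 1 - i) : ℂ) := by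
      have := congrArg (Int.cast : ℤ → ℂ) hrec
      push_cast at this
      push_cast
      exact this
    have e : (effDivCount k K (m + 1) : ℂ) * ((m : ℂ) + 1) =
        ((m + 1 : ℕ) : ℂ) * (effDivCount k K (m + 1) : ℂ) := by push_cast; ring
    rw [e, hrec', Finset.sum_range_succ', ← Finset.Ico_add_one_right_eq_Icc,
      Finset.sum_Ico_eq_sum_range]
    have h0 : coeff 0 (NSc k K) = 0 := by simp [NSc]
    rw [h0, zero_mul, add_zero, Nat.add_sub_cancel]
    refine Finset.sum_congr rfl fun i _ => ?_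
    rw [coeff_Zc, add_comm 1 i]
    congr 1
    simp [NSc]

omit [Finite k] in
theorem map_numerZ : PowerSeries.map (Int.castRingHom ℂ) (numerZ k K) =
    ((1 - C (1 : ℂ) * X) * (1 - C (Nat.card k : ℂ) * X)) * Zc k K := by
  unfold numerZ Zc
  rw [map_mul, map_mul, map_sub, map_sub, map_one, map_mul, map_X, map_C, map_one, one_mul]
  simp

theorem LD_E (q : ℂ) : LD ((1 - C (1 : ℂ) * X) * (1 - C q * X)) (-G 1 + -G q) :=
  (LD_one_sub 1).mul (LD_one_sub q)

theorem constantCoeff_E (q : ℂ) :
    constantCoeff ((1 - C (1 : ℂ) * X) * (1 - C q * X)) = 1 := by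
  simp

omit [Finite k] in
theorem constantCoeff_Zc (hK : IsFunctionField k K) : constantCoeff (Zc k K) = 1 := by
  rw [← coeff_zero_eq_constantCoeff_apply, coeff_Zc, effDivCount_zero hK]
  simp

theorem coe_prod_one_sub {n : ℕ} (α : Fin n → ℂ) :
    ((∏ i, (1 - Polynomial.C (α i) * Polynomial.X) : Polynomial ℂ) : ℂ⟦X⟧) =
      ∏ i, (1 - C (α i) * X) := by
  rw [← Polynomial.coeToPowerSeries.ringHom_apply, map_prod]
  refine Finset.prod_congr rfl fun i _ => ?_
  simp

theorem LD_prod_one_sub {n : ℕ} (α : Fin n → ℂ) :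
    LD (∏ i, (1 - C (α i) * X) : ℂ⟦X⟧) (∑ i, -G (α i)) :=
  LD.prod Finset.univ _ _ fun i _ => LD_one_sub (α i)

theorem constantCoeff_prod_one_sub {n : ℕ} (α : Fin n → ℂ) :
    constantCoeff (∏ i, (1 - C (α i) * X) : ℂ⟦X⟧) = 1 := by
  rw [map_prod]
  apply Finset.prod_eq_one
  intro i _
  simp

/-- `N_n = 1 + qⁿ - ∑ αᵢⁿ` -/
theorem Ncount_formula (hK : IsFunctionField k K) {m : ℕ} (α : Fin m → ℂ)
    (hα : PowerSeries.map (Int.castRingHom ℂ) (numerZ k K) =
      ((∏ i, (1 - Polynomial.C (α i) * Polynomial.X) : Polynomial ℂ) : ℂ⟦X⟧)) {n : ℕ} (hn : 1 ≤ n) :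
    (Ncount k K n : ℂ) = 1 + (Nat.card k : ℂ) ^ n - ∑ i, α i ^ n := by
  rw [map_numerZ, coe_prod_one_sub] at hα
  have h1 := (LD_E (Nat.card k : ℂ)).mul (LD_Zc hK)
  rw [hα] at h1
  have h2 := LD_prod_one_sub α
  have hne : (∏ i, (1 - C (α i) * X) : ℂ⟦X⟧) ≠ 0 := by
    intro h0
    have := constantCoeff_prod_one_sub α
    rw [h0, map_zero] at this
    exact zero_ne_one this
  have h3 := LD.unique_right h1 h2 hne
  have h4 := congrArg (coeff n) h3
  rw [map_add, map_add, map_neg, map_neg, map_sum] at h4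
  simp only [map_neg, coeff_G, NSc, coeff_mk, if_neg (show n ≠ 0 by omega), one_pow] at h4
  rw [Finset.sum_neg_distrib] at h4
  linear_combination h4

end LDZeta

section ConstExt

variable {k K k' K' : Type*} [Field k] [Finite k] [Field K] [Algebra k K] [Field k'] [Finite k']
  [Field K'] [Algebra k k'] [Algebra K K'] [Algebra k' K']

/-- `N'_n = N_{rn}` from `IsConstExt` -/
theorem Ncount_of_isConstExt (hK : IsFunctionField k K) (hce : IsConstExt k K k' K') {n : ℕ}
    (hn : 1 ≤ n) : Ncount k' K' n = Ncount k K (Module.finrank k k' * n) := by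
  letI : Algebra k K' := ((algebraMap K K').comp (algebraMap k K)).toAlgebra
  have : IsScalarTower k K K' := IsScalarTower.of_algebraMap_eq fun _ => rfl
  have : IsScalarTower k k' K' := IsScalarTower.of_algebraMap_eq fun c => hce.1 c
  have : FiniteDimensional k k' := Module.Finite.of_finite
  have hbij : Function.Bijective (pm k k' K K') := bijective_pm_of_adjoin hce.2.1 hce.2.2
  exact Ncount_constExt hbij hK hn

omit [Finite k] [Field k'] [Finite k'] [Field K'] [Algebra k k'] [Algebra K K'] [Algebra k' K'] in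
/-- the number of places of degree one is `N_1` -/
theorem card_deg_one (hK : IsFunctionField k K) [Finite k] :
    Nat.card {P : Place k K // P.deg = 1} = Ncount k K 1 := by
  classical
  rw [Ncount_eq_sum (Pl hK 1) (fun P hP => by
    rw [mem_Pl]; exact Nat.le_of_dvd one_pos hP)]
  have h1 : ∀ P ∈ Pl hK 1, (if P.deg ∣ 1 then P.deg else 0) = if P.deg = 1 then 1 else 0 := by
    intro P _
    by_cases h : P.deg = 1
    · rw [if_pos h, if_pos (by rw [h])]
      exact h
    · rw [if_neg h, if_neg (by rw [Nat.dvd_one]; exact h)]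
  rw [Finset.sum_congr rfl h1, Finset.sum_boole, Nat.cast_id, ← Nat.card_eq_finsetCard]
  apply Nat.card_congr
  exact
    { toFun := fun P => ⟨P.1, by
        rw [Finset.mem_filter, mem_Pl]
        exact ⟨P.2.le, P.2⟩⟩
      invFun := fun P => ⟨P.1, (Finset.mem_filter.mp P.2).2⟩
      left_inv := fun _ => rfl
      right_inv := fun _ => rfl }

theorem card_constExt (hK : IsFunctionField k K) : Nat.card k' = Nat.card k ^ Module.finrank k k' := by
  have : FiniteDimensional k k' := Module.Finite.of_finite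
  exact Module.natCard_eq_pow_finrank

/-- number of rational places of a constant field extension -/
theorem card_deg_one_constExt (hK : IsFunctionField k K) (hK' : IsFunctionField k' K')
    (hce : IsConstExt k K k' K') {m : ℕ} (α : Fin m → ℂ)
    (hα : PowerSeries.map (Int.castRingHom ℂ) (numerZ k K) =
      ((∏ i, (1 - Polynomial.C (α i) * Polynomial.X) : Polynomial ℂ) : ℂ⟦X⟧)) :
    (Nat.card {P : Place k' K' // P.deg = 1} : ℂ) =
      1 + (Nat.card k : ℂ) ^ Module.finrank k k' - ∑ i, α i ^ Module.finrank k k' := by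
  have : FiniteDimensional k k' := Module.Finite.of_finite
  have hr : 1 ≤ Module.finrank k k' := Module.finrank_pos
  rw [card_deg_one hK', Ncount_of_isConstExt hK hce le_rfl, mul_one, Ncount_formula hK α hα hr]

/-- the numerator of the zeta function of a constant field extension -/
theorem numerZ_constExt (hK : IsFunctionField k K) (hK' : IsFunctionField k' K')
    (hce : IsConstExt k K k' K') {m : ℕ} (α : Fin m → ℂ)
    (hα : PowerSeries.map (Int.castRingHom ℂ) (numerZ k K) =
      ((∏ i, (1 - Polynomial.C (α i) * Polynomial.X) : Polynomial ℂ) : ℂ⟦X⟧)) :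
    PowerSeries.map (Int.castRingHom ℂ) (numerZ k' K') =
      ((∏ i, (1 - Polynomial.C (α i ^ Module.finrank k k') * Polynomial.X) : Polynomial ℂ) :
        ℂ⟦X⟧) := by
  have : FiniteDimensional k k' := Module.Finite.of_finite
  set r := Module.finrank k k' with hrdef
  have hr : 1 ≤ r := Module.finrank_pos
  rw [map_numerZ, coe_prod_one_sub]
  have h1 := (LD_E (Nat.card k' : ℂ)).mul (LD_Zc hK')
  have h2 := LD_prod_one_sub (fun i => α i ^ r)
  have hS : -G 1 + -G (Nat.card k' : ℂ) + NSc k' K' = ∑ i, -G (α i ^ r) := by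
    ext n
    rw [map_add, map_add, map_neg, map_neg, map_sum]
    simp only [map_neg, coeff_G, NSc, coeff_mk]
    rcases Nat.eq_zero_or_pos n with h0 | hpos
    · subst h0
      simp
    · have hn0 : n ≠ 0 := by omega
      simp only [if_neg hn0, one_pow]
      rw [Ncount_of_isConstExt hK hce hpos,
        Ncount_formula hK α hα (show 1 ≤ r * n from Nat.mul_pos hr hpos), card_constExt hK,
        Finset.sum_neg_distrib]
      push_cast
      rw [← pow_mul]
      have : ∀ i, (α i ^ r) ^ n = α i ^ (r * n) := fun i => (pow_mul _ _ _).symm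
      rw [Finset.sum_congr rfl fun i _ => this i]
      ring
  rw [hS] at h1
  apply LD.unique_left h1 h2
  · rw [map_mul, constantCoeff_E, constantCoeff_Zc hK', one_mul]
  · exact constantCoeff_prod_one_sub _

end ConstExt

end Groth.Agent.Helper9.Zeta
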